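import Cfsg.Agent.Lib.J4G.Simple
import Cfsg.Prelude.Def_Sporadic

/-!
# The image of the presented group: exact order and simplicity from a bound on the index
-/

set_option autoImplicit false
set_option maxRecDepth 100000

namespace CfsgLib.J4G

open Subgroup Cfsg.Spor CfsgLib.J4P

/-- The subgroup of the presented group on x, y and the third element. -/
noncomputable def kpG : Subgroup Cfsg.Spor.J4 :=
  ((Subgroup.closure ({J4.x, J4.y, (J4.y * ((J4.y * J4.x) ^ 4 * J4.y⁻¹ * J4.x)⁻¹ * J4.t *
    ((J4.y * J4.x) ^ 4 * J4.y⁻¹ * J4.x)) ^ 3} : Set (FreeGroup J4.Gen))).map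
      (PresentedGroup.mk (coxRelators J4.edges ∪ {r | r ∈ J4.extra})))

theorem map_kpG : kpG.map rho = gK := by
  rw [kpG, MonoidHom.map_closure, MonoidHom.map_closure, gK]
  refine congrArg Subgroup.closure ?_
  simp only [Set.image_insert_eq, Set.image_singleton, map_pow, map_mul, map_inv]
  change ({rho (PresentedGroup.of J4.Gen.x), rho (PresentedGroup.of J4.Gen.y),
    (rho (PresentedGroup.of J4.Gen.y) *
      ((rho (PresentedGroup.of J4.Gen.y) * rho (PresentedGroup.of J4.Gen.x)) ^ 4 *
        (rho (PresentedGroup.of J4.Gen.y))⁻¹ * rho (PresentedGroup.of J4.Gen.x))⁻¹ *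
      rho (PresentedGroup.of J4.Gen.t) *
      ((rho (PresentedGroup.of J4.Gen.y) * rho (PresentedGroup.of J4.Gen.x)) ^ 4 *
        (rho (PresentedGroup.of J4.Gen.y))⁻¹ * rho (PresentedGroup.of J4.Gen.x))) ^ 3} : Set GL2) = _
  simp only [rho_of]
  rfl

/-- With the bound on the index: the order, the index, simplicity. -/
theorem of_index_le (h0 : kpG.index ≠ 0) (h : kpG.index ≤ 173067389) :
    Nat.card gJ = 86775571046077562880 ∧ kpG.index = 173067389 ∧ IsSimpleGroup gJ := by
  have e1 : (kpG.map rho.rangeRestrict).map rho.range.subtype = gK := by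
    rw [map_map, MonoidHom.subtype_comp_rangeRestrict, map_kpG]
  have e2 : Nat.card (kpG.map rho.rangeRestrict) = 501397585920 := by
    rw [← card_map_of_injective rho.range.subtype_injective, e1, card_gK]
  have e3 : (kpG.map rho.rangeRestrict).index ∣ kpG.index :=
    index_map_dvd _ rho.rangeRestrict_surjective
  have e4 := (kpG.map rho.rangeRestrict).card_mul_index
  rw [e2, Nat.card_congr (MulEquiv.subgroupCongr rho_range).toEquiv] at e4
  have e5 : (kpG.map rho.rangeRestrict).index ≤ kpG.index :=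
    Nat.le_of_dvd (Nat.pos_of_ne_zero h0) e3
  obtain ⟨c, hc⟩ := gJ_lower
  have hpos : 0 < Nat.card gJ := Nat.card_pos
  have hcard : Nat.card gJ = 86775571046077562880 ∧ kpG.index = 173067389 := by
    have hc1 : c = 1 := by
      rcases c with _ | _ | c
      · rw [hc] at hpos; simp at hpos
      · rfl
      · rw [hc] at e4
        nlinarith
    rw [hc1, mul_one] at hc
    rw [hc] at e4
    exact ⟨hc, le_antisymm h (le_trans (by omega) e5)⟩
  exact ⟨hcard.1, hcard.2, gJ_simple hcard.1⟩

theorem realization (h0 : kpG.index ≠ 0) (h : kpG.index ≤ 173067389) : Cfsg.IsJ4 gJ := by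
  obtain ⟨e, -, hs⟩ := of_index_le h0 h
  exact ⟨hs, e⟩

end CfsgLib.J4G
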