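import Cfsg.Agent.Lib.J4G.Values

/-!
# The kernel checks on packed matrices
-/

set_option autoImplicit false
set_option maxRecDepth 100000

namespace CfsgLib.J4G

open CfsgLib.J4P

theorem base_checks :
    ((List.range 6).all fun i => Nat.beq (matJ.getD i []).length 112 &&
      (matJ.getD i []).all fun a => Nat.blt a (2 ^ 112)) = true ∧
    Nat.beq (bsP.getD 0 idP) p0P = true ∧
    (conjW.map (evalP envC) == bsP) = true ∧
    ((List.range 11).all fun i => goodP (bsP.getD i idP)) = true := by
  refine ⟨?_, ?_, ?_, ?_⟩ <;> decide +kernel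

theorem invol_checks :
    (bsP.all fun a => Nat.beq (mP a a) idP && bsP.all fun b => Nat.beq (mP a b) (mP b a)) = true := by
  decide +kernel

theorem act_checks :
    (bsP.map (fun b => mP (mP (letP 0) b) (letP 0)) == xE.map (eLP bsP)) = true ∧
    (bsP.map (fun b => mP (mP (letP 3) b) (letP 2)) == yE.map (eLP bsP)) = true ∧
    Nat.beq (mP (letP 0) (bsP.getD 0 idP)) (mP (bsP.getD 0 idP) (letP 0)) = false := by
  refine ⟨?_, ?_, ?_⟩ <;> decide +kernel

theorem tab_checks :
    ((tabP bsP).tail.all fun t => !Nat.beq t idP) = true ∧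
    (let f := evalP envK fW; (tabP bsP).all fun t => !Nat.beq t f) = true ∧
    Nat.beq (evalP envK fW) (mP (mP (letP 4) (eLP bsP fQ)) (letP 4)) = true := by
  refine ⟨?_, ?_, ?_⟩ <;> decide +kernel

theorem order_checks :
    ((List.zip [29, 31, 37, 43] ordW).all fun q =>
      let u := evalP envA q.2
      Nat.beq (powP u q.1) idP && !Nat.beq u idP) = true := by
  decide +kernel

theorem eleven_checks :
    (let a := evalP envA aW
     let b := evalP envA bW
     let c := mP (mP (powP a 10) (powP b 10)) (mP a b)
     Nat.beq (powP a 11) idP && Nat.beq (powP b 11) idP && Nat.beq (powP c 11) idP && !Nat.beq c idP &&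
       Nat.beq (mP (mP b a) c) (mP a b) && Nat.beq (mP a c) (mP c a) && Nat.beq (mP b c) (mP c b)) = true := by
  decide +kernel

theorem fix_checks : Nat.beq fixSum dP = true ∧ (bsP.length = 11 ∧ fixC.length = 11) := by
  refine ⟨?_, ?_⟩ <;> decide +kernel

end CfsgLib.J4G
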