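import Cfsg.Agent.Lib.J4G.Pack
import Mathlib.LinearAlgebra.Matrix.GeneralLinearGroup.Defs
import Mathlib.GroupTheory.OrderOfElement

/-!
# Invertible matrices with packed values

An invertible matrix is followed through products by its packed value.
-/

set_option autoImplicit false
set_option maxRecDepth 100000

namespace CfsgLib.J4G

/-- The group of invertible matrices of degree 112. -/
abbrev GL2 : Type := GL (Fin 112) (ZMod 2)

/-- The matrix of g is packed in P. -/
def Rep (g : GL2) (P : ℕ) : Prop :=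
  goodP P = true ∧ (g : Matrix (Fin 112) (Fin 112) (ZMod 2)) = toMatP P

theorem rep_one : Rep 1 idP := ⟨goodP_id, by rw [toMatP_id]; rfl⟩

theorem Rep.mul {g h : GL2} {A B : ℕ} (hg : Rep g A) (hh : Rep h B) : Rep (g * h) (mP A B) := by
  obtain ⟨e1, e2⟩ := mP_spec (B := B) hg.1
  exact ⟨e1, by rw [Units.val_mul, e2, hg.2, hh.2]⟩

theorem Rep.eq {g h : GL2} {A B : ℕ} (hg : Rep g A) (hh : Rep h B) (e : A = B) : g = h := by
  subst e
  exact Units.ext (hg.2.trans hh.2.symm)

theorem Rep.value_eq {g : GL2} {A B : ℕ} (hg : Rep g A) (hh : Rep g B) : A = B :=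
  toMatP_inj hg.1 hh.1 (hg.2.symm.trans hh.2)

theorem Rep.ne {g h : GL2} {A B : ℕ} (hg : Rep g A) (hh : Rep h B) (e : A ≠ B) : g ≠ h :=
  fun hgh => e (hg.value_eq (hgh.symm ▸ hh))

/-- The powers of a packed matrix. -/
noncomputable def powP (A : ℕ) : ℕ → ℕ :=
  fun n => Nat.rec idP (fun _ ih => mP ih A) n

theorem Rep.pow {g : GL2} {A : ℕ} (hg : Rep g A) : ∀ n, Rep (g ^ n) (powP A n)
  | 0 => by rw [pow_zero]; exact rep_one
  | n + 1 => by rw [pow_succ]; exact (hg.pow n).mul hg

/-- The value of a word in a list of packed matrices. -/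
noncomputable def evalP (env : List ℕ) (w : List ℕ) : ℕ :=
  w.foldl (fun a i => mP a (env.getD i idP)) idP

/-- Each word adds a value to the list. -/
noncomputable def runP (prog : List (List ℕ)) (env : List ℕ) : List ℕ :=
  prog.foldl (fun env w => env ++ [evalP env w]) env

/-- P is the value of an element of S. -/
def InS (S : Subgroup GL2) (P : ℕ) : Prop := ∃ g ∈ S, Rep g P

theorem InS.one (S : Subgroup GL2) : InS S idP := ⟨1, S.one_mem, rep_one⟩

theorem InS.mul {S : Subgroup GL2} {A B : ℕ} (hA : InS S A) (hB : InS S B) : InS S (mP A B) := by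
  obtain ⟨g, hg, rg⟩ := hA
  obtain ⟨h, hh, rh⟩ := hB
  exact ⟨g * h, S.mul_mem hg hh, rg.mul rh⟩

theorem InS.getD {S : Subgroup GL2} {env : List ℕ} (h : ∀ P ∈ env, InS S P) (i : ℕ) :
    InS S (env.getD i idP) := by
  by_cases hi : i < env.length
  · rw [List.getD_eq_getElem _ _ hi]; exact h _ (List.getElem_mem hi)
  · rw [List.getD_eq_default _ _ (by omega)]; exact InS.one S

theorem InS.evalP {S : Subgroup GL2} {env : List ℕ} (h : ∀ P ∈ env, InS S P) (w : List ℕ) :
    InS S (evalP env w) := by
  suffices ∀ (w : List ℕ) (a : ℕ), InS S a →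
      InS S (w.foldl (fun a i => mP a (env.getD i idP)) a) from this w idP (InS.one S)
  intro w
  induction w with
  | nil => exact fun a ha => ha
  | cons i w ih => exact fun a ha => ih _ (ha.mul (InS.getD h i))

theorem InS.runP {S : Subgroup GL2} : ∀ (prog : List (List ℕ)) {env : List ℕ},
    (∀ P ∈ env, InS S P) → ∀ P ∈ runP prog env, InS S P
  | [], env, h => h
  | w :: prog, env, h => InS.runP prog (env := env ++ [J4G.evalP env w]) fun P hP => by
    rcases List.mem_append.1 hP with hP | hP
    · exact h P hP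
    · rw [List.mem_singleton.1 hP]; exact InS.evalP h w

/-- The powers vanish at a prime: the order. -/
theorem Rep.order {g : GL2} {A p : ℕ} (hg : Rep g A) (hp : p.Prime)
    (h : (Nat.beq (powP A p) idP && !Nat.beq A idP) = true) : orderOf g = p := by
  simp only [Bool.and_eq_true, Bool.not_eq_true', Nat.beq_eq] at h
  have : Fact p.Prime := ⟨hp⟩
  refine orderOf_eq_prime ((hg.pow p).eq rep_one h.1) (hg.ne rep_one fun e => ?_)
  simp [e] at h

end CfsgLib.J4G
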