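import Cfsg.Agent.Lib.J4G.Data
import Cfsg.Agent.Lib.J4P.BitMat
import Mathlib.Data.Nat.Bitwise
import Mathlib.Tactic.IntervalCases

/-!
# No invariant subspace among the vectors of eleven bits

The two generators act with two orbits on the nonzero vectors and each orbit spans.
-/

set_option autoImplicit false
set_option maxRecDepth 100000

namespace CfsgLib.J4G

open CfsgLib.J4P

/-- The action of a generator on coordinates. -/
def stepE (g a : ℕ) : ℕ := if Nat.beq g 0 then vmB xE a else vmB yE a

/-- The action of a word. -/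
def walkE (w : List ℕ) (a : ℕ) : ℕ := w.foldl (fun a g => stepE g a) a

/-- Every entry steps to an earlier one. -/
def forestOk : List (ℕ × ℕ) → ℕ → Bool
  | [], seen => Nat.beq seen (2 ^ 2048 - 2)
  | (a, g) :: l, seen => seen.testBit (stepE g a) && forestOk l (seen ||| 2 ^ a)

/-- The sum of the images of a root. -/
def sumE (r : ℕ) (ws : List (List ℕ)) : ℕ := ws.foldl (fun s w => s ^^^ walkE w r) 0

theorem forest_check : forestOk forestE (rootsE.foldl (fun s r => s ||| 2 ^ r) 0) = true := by
  decide +kernel

theorem span_check :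
    ((List.zip rootsE spanE).all fun q => Nat.beq q.2.length 11 &&
      (List.range 11).all fun j => Nat.beq (sumE q.1 (q.2.getD j [])) (2 ^ j)) = true ∧
    spanE.length = rootsE.length ∧ (rootsE.all fun r => Nat.blt r 2048) = true := by
  decide +kernel

theorem forestOk_sound {P : ℕ → Prop} (hP : ∀ g a, P (stepE g a) → P a) :
    ∀ (l : List (ℕ × ℕ)) (seen : ℕ), forestOk l seen = true → (∀ a, seen.testBit a = true → P a) →
      ∀ a, 1 ≤ a → a < 2048 → P a
  | [], seen, h, hs, a, h1, h2 => by
    rw [forestOk, Nat.beq_eq] at h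
    refine hs a ?_
    rw [h, show 2 ^ 2048 - 2 = 2 * (2 ^ 2047 - 1) by rw [Nat.mul_sub, ← pow_succ'],
      show a = (a - 1) + 1 by omega, Nat.testBit_succ, Nat.mul_div_cancel_left _ (by norm_num),
      Nat.testBit_two_pow_sub_one]
    simp; omega
  | (b, g) :: l, seen, h, hs, a, h1, h2 => by
    rw [forestOk, Bool.and_eq_true] at h
    refine forestOk_sound hP l _ h.2 (fun c hc => ?_) a h1 h2
    rw [Nat.testBit_or, Bool.or_eq_true] at hc
    rcases hc with hc | hc
    · exact hs c hc
    · rw [Nat.testBit_two_pow] at hc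
      rw [← of_decide_eq_true hc]
      exact hP g b (hs _ h.1)

/-- A nonzero invariant subspace is everything. -/
theorem invariant_all {W : ℕ → Prop} (h0 : W 0) (hadd : ∀ a b, W a → W b → W (a ^^^ b))
    (hstep : ∀ g a, W a → W (stepE g a)) {u : ℕ} (hu0 : u ≠ 0) (hu : u < 2048) (hW : W u) :
    ∀ a < 2048, W a := by
  obtain ⟨r, hr, hWr⟩ : ∃ r ∈ rootsE, W r := by
    refine (forestOk_sound (P := fun a => W a → ∃ r ∈ rootsE, W r)
      (fun g a h ha => h (hstep g a ha)) forestE _ forest_check ?_ u (by omega) hu) hW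
    intro a ha hWa
    suffices ∀ (l : List ℕ) (s : ℕ), (l.foldl (fun s r => s ||| 2 ^ r) s).testBit a = true →
        s.testBit a = true ∨ a ∈ l by
      rcases this rootsE 0 ha with h | h
      · simp at h
      · exact ⟨a, h, hWa⟩
    intro l
    induction l with
    | nil => exact fun s h => Or.inl h
    | cons r l ih =>
      intro s h
      rcases ih _ h with h | h
      · rw [Nat.testBit_or, Bool.or_eq_true, Nat.testBit_two_pow] at h
        rcases h with h | h
        · exact Or.inl h
        · exact Or.inr (List.mem_cons.2 (Or.inl (of_decide_eq_true h).symm))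
      · exact Or.inr (List.mem_cons_of_mem _ h)
  have hwalk : ∀ (w : List ℕ) (a : ℕ), W a → W (walkE w a) := by
    intro w
    induction w with
    | nil => exact fun a ha => ha
    | cons g w ih => exact fun a ha => ih _ (hstep g a ha)
  have hsum : ∀ (ws : List (List ℕ)) (s : ℕ), W s →
      W (ws.foldl (fun s w => s ^^^ walkE w r) s) := by
    intro ws
    induction ws with
    | nil => exact fun s hs => hs
    | cons w ws ih => exact fun s hs => ih _ (hadd _ _ hs (hwalk w r hWr))
  obtain ⟨hspan, hlen, -⟩ := span_check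
  obtain ⟨i, hi, rfl⟩ := List.getElem_of_mem hr
  have hq : (rootsE[i], spanE[i]'(hlen ▸ hi)) ∈ List.zip rootsE spanE :=
    List.mem_iff_getElem.2 ⟨i, by rw [List.length_zip, hlen, Nat.min_self]; exact hi, List.getElem_zip⟩
  have hq' := List.all_eq_true.1 hspan _ hq
  simp only [Bool.and_eq_true, List.all_eq_true, List.mem_range, Nat.beq_eq] at hq'
  have hbasis : ∀ j < 11, W (2 ^ j) := fun j hj => by
    rw [← hq'.2 j hj]
    exact hsum _ 0 h0
  suffices ∀ n ≤ 11, ∀ a < 2 ^ n, W a from this 11 le_rfl
  intro n
  induction n with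
  | zero => intro _ a ha; rw [show a = 0 by simpa using ha]; exact h0
  | succ n ih =>
    intro hn a ha
    by_cases h : a < 2 ^ n
    · exact ih (by omega) a h
    · have e : a = (a - 2 ^ n) ^^^ 2 ^ n := by
        have hlt : a - 2 ^ n < 2 ^ n := by rw [pow_succ] at ha; omega
        refine Nat.eq_of_testBit_eq fun k => ?_
        conv_lhs => rw [show a = 2 ^ n * 1 + (a - 2 ^ n) by omega]
        rw [Nat.testBit_two_pow_mul_add _ hlt, Nat.testBit_xor, Nat.testBit_two_pow]
        rcases lt_trichotomy k n with hk | rfl | hk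
        · simp [hk, Nat.ne_of_gt hk]
        · simp [Nat.testBit_eq_false_of_lt hlt]
        · rw [if_neg (by omega), Nat.testBit_eq_false_of_lt (lt_of_lt_of_le hlt (Nat.pow_le_pow_right (by norm_num) hk.le))]
          obtain ⟨m, rfl⟩ : ∃ m, k = n + (m + 1) := ⟨k - n - 1, by omega⟩
          simp [Nat.testBit_eq_false_of_lt (Nat.one_lt_two_pow (Nat.succ_ne_zero m))]
      rw [e]
      exact hadd _ _ (ih (by omega) _ (by rw [pow_succ] at ha; omega)) (hbasis n (by omega))

end CfsgLib.J4G
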