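import Cfsg.Agent.Lib.J4G.Gens
import Cfsg.Agent.Lib.J4G.Irred

/-!
# The elementary abelian subgroup of order 2^11
-/

set_option autoImplicit false
set_option maxRecDepth 100000

namespace CfsgLib.J4G

open CfsgLib.J4P Subgroup

theorem exists_reps {S : Subgroup GL2} : ∀ {lP : List ℕ}, (∀ P ∈ lP, InS S P) →
    ∃ l : List GL2, List.Forall₂ Rep l lP ∧ ∀ g ∈ l, g ∈ S
  | [], _ => ⟨[], List.Forall₂.nil, by simp⟩
  | P :: lP, h => by
    obtain ⟨g, hg, hr⟩ := h P List.mem_cons_self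
    obtain ⟨l, hl, hlS⟩ := exists_reps (lP := lP) fun Q hQ => h Q (List.mem_cons_of_mem _ hQ)
    refine ⟨g :: l, List.Forall₂.cons hr hl, fun a ha => ?_⟩
    rcases List.mem_cons.1 ha with rfl | ha
    exacts [hg, hlS a ha]

/-- The eleven involutions. -/
noncomputable def bsG : List GL2 := Classical.choose (exists_reps bsP_mem)

theorem bsG_rep : List.Forall₂ Rep bsG bsP := (Classical.choose_spec (exists_reps bsP_mem)).1

theorem bsG_mem : ∀ b ∈ bsG, b ∈ gK := (Classical.choose_spec (exists_reps bsP_mem)).2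

theorem forall₂_mem : ∀ {l : List GL2} {lP : List ℕ}, List.Forall₂ Rep l lP →
    ∀ a ∈ l, ∃ P ∈ lP, Rep a P
  | _, _, .cons h ht, a, ha => by
    rcases List.mem_cons.1 ha with rfl | ha
    · exact ⟨_, List.mem_cons_self, h⟩
    · obtain ⟨P, hP, hr⟩ := forall₂_mem ht a ha
      exact ⟨P, List.mem_cons_of_mem _ hP, hr⟩
  | _, _, .nil, _, ha => by simp at ha

theorem forall₂_eq : ∀ {l l' : List GL2} {lP : List ℕ}, List.Forall₂ Rep l lP →
    List.Forall₂ Rep l' lP → l = l'
  | _, _, _, .nil, .nil => rfl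
  | _, _, _, .cons h ht, .cons h' ht' => by rw [h.eq h' rfl, forall₂_eq ht ht']

theorem rep_eL {l : List GL2} {lP : List ℕ} (h : List.Forall₂ Rep l lP) :
    ∀ u, Rep (eL l u) (eLP lP u) := by
  induction h with
  | nil => exact fun _ => rep_one
  | @cons b P l lP hb _ ih =>
    intro u
    show Rep (eL (b :: l) u) (if Nat.beq (u % 2) 1 then mP P (eLP lP (u / 2)) else eLP lP (u / 2))
    rw [eL]
    split_ifs
    · exact hb.mul (ih _)
    · exact ih _

theorem bs_sq : ∀ a ∈ bsG, a * a = 1 := fun a ha => by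
  obtain ⟨P, hP, hr⟩ := forall₂_mem bsG_rep a ha
  have h := List.all_eq_true.1 invol_checks P hP
  simp only [Bool.and_eq_true, Nat.beq_eq] at h
  exact (hr.mul hr).eq rep_one h.1

theorem bs_comm : ∀ a ∈ bsG, ∀ b ∈ bsG, Commute a b := fun a ha b hb => by
  obtain ⟨P, hP, hr⟩ := forall₂_mem bsG_rep a ha
  obtain ⟨Q, hQ, hs⟩ := forall₂_mem bsG_rep b hb
  have h := List.all_eq_true.1 invol_checks P hP
  simp only [Bool.and_eq_true, List.all_eq_true, Nat.beq_eq] at h
  exact (hr.mul hs).eq (hs.mul hr) (h.2 Q hQ)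

/-- The elements of the abelian subgroup. -/
noncomputable def eG (u : ℕ) : GL2 := eL bsG u

theorem rep_eG (u : ℕ) : Rep (eG u) (eLP bsP u) := rep_eL bsG_rep u

theorem eG_xor (u w : ℕ) : eG (u ^^^ w) = eG u * eG w := by
  exact @eL_xor GL2 inferInstance bsG bs_sq bs_comm u w

theorem eG_zero : eG 0 = 1 := eL_zero _

theorem eG_self (u : ℕ) : eG u * eG u = 1 := by rw [← eG_xor, Nat.xor_self, eG_zero]

theorem eL_bound : ∀ {l : List GL2} (u : ℕ), eL l u = eL l (u % 2 ^ l.length)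
  | [], u => rfl
  | b :: l, u => by
    have h1 : u % 2 ^ (l.length + 1) % 2 = u % 2 :=
      Nat.mod_mod_of_dvd u (dvd_pow_self 2 (Nat.succ_ne_zero _))
    have h2 : u % 2 ^ (l.length + 1) / 2 = u / 2 % 2 ^ l.length := by
      rw [pow_succ', Nat.mod_mul_right_div_self]
    rw [eL, eL, List.length_cons, h1, h2, eL_bound (l := l) (u / 2)]

theorem bsG_length : bsG.length = 11 := bsG_rep.length_eq.trans fix_checks.2.1

theorem eG_mod (u : ℕ) : eG u = eG (u % 2048) := by
  rw [eG, eL_bound (l := bsG), bsG_length]; rfl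

/-- The abelian subgroup. -/
noncomputable def gE : Subgroup GL2 where
  carrier := Set.range eG
  mul_mem' := by
    rintro _ _ ⟨u, rfl⟩ ⟨w, rfl⟩
    exact ⟨u ^^^ w, eG_xor u w⟩
  one_mem' := ⟨0, eG_zero⟩
  inv_mem' := by
    rintro _ ⟨u, rfl⟩
    exact ⟨u, (@inv_eq_of_mul_eq_one_right GL2 inferInstance _ _ (eG_self u)).symm⟩

theorem mem_gE {g : GL2} : g ∈ gE ↔ ∃ u < 2048, eG u = g :=
  ⟨fun ⟨u, hu⟩ => ⟨u % 2048, Nat.mod_lt _ (by norm_num), (eG_mod u).symm.trans hu⟩,
    fun ⟨u, _, hu⟩ => ⟨u, hu⟩⟩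

theorem mem_of_bs {b : GL2} (hb : b ∈ bsG) : b ∈ gE := by
  obtain ⟨i, hi, rfl⟩ := List.getElem_of_mem hb
  suffices ∀ (l : List GL2) (i : ℕ) (hi : i < l.length), eL l (2 ^ i) = l[i] from ⟨2 ^ i, this bsG i hi⟩
  intro l
  induction l with
  | nil => intro i hi; simp at hi
  | cons b l ih =>
    intro i hi
    cases i with
    | zero => rw [eL, if_pos (by simp), show (2 ^ 0 / 2) = 0 from rfl, eL_zero, mul_one]; rfl
    | succ i =>
      rw [eL, if_neg (by simp [Nat.pow_mod]), pow_succ, Nat.mul_div_cancel _ (by norm_num),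
        ih i (by simpa using hi)]
      rfl

theorem tab_index : ∀ (lP : List ℕ), (tabP lP).length = 2 ^ lP.length ∧
    ∀ u (h : u < (tabP lP).length), (tabP lP)[u] = eLP lP u := by
  intro lP
  induction lP with
  | nil => exact ⟨rfl, fun u h => by simp [tabP] at h; subst h; rfl⟩
  | cons b l ih =>
    obtain ⟨hl, hu⟩ := ih
    have key : ∀ (T : List ℕ), (T.flatMap fun t => [t, mP b t]).length = 2 * T.length ∧
        ∀ u (hu : u < 2 * T.length), (T.flatMap fun t => [t, mP b t]).getD u 0 =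
          if u % 2 = 1 then mP b (T.getD (u / 2) 0) else T.getD (u / 2) 0 := by
      intro T
      induction T with
      | nil => exact ⟨rfl, fun u hu => by simp at hu⟩
      | cons t T iht =>
        refine ⟨by simp [iht.1]; ring, fun u hu' => ?_⟩
        rw [List.flatMap_cons, List.cons_append, List.cons_append, List.nil_append]
        match u with
        | 0 => simp
        | 1 => simp
        | u + 2 =>
          rw [List.getD_cons_succ, List.getD_cons_succ, iht.2 u (by simp at hu' ⊢; omega),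
            show (u + 2) % 2 = u % 2 by omega, show (u + 2) / 2 = u / 2 + 1 by omega, List.getD_cons_succ]
    obtain ⟨k1, k2⟩ := key (tabP l)
    have e : tabP (b :: l) = (tabP l).flatMap fun t => [t, mP b t] := rfl
    refine ⟨by rw [e, k1, hl, List.length_cons, pow_succ'], fun u h => ?_⟩
    have h' : u < 2 * (tabP l).length := by rw [e, k1] at h; exact h
    rw [← List.getD_eq_getElem _ 0 h, e, k2 u h', List.getD_eq_getElem _ _ (by omega), hu]
    show _ = if Nat.beq (u % 2) 1 then mP b (eLP l (u / 2)) else eLP l (u / 2)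
    simp only [Nat.beq_eq]

theorem tab_bs {u : ℕ} (h : u < 2048) : eLP bsP u ∈ tabP bsP ∧
    (u ≠ 0 → eLP bsP u ∈ (tabP bsP).tail) := by
  obtain ⟨hlen, hget⟩ := tab_index bsP
  rw [fix_checks.2.1] at hlen
  have hu : u < (tabP bsP).length := by rw [hlen]; exact h
  refine ⟨hget u hu ▸ List.getElem_mem hu, fun h0 => ?_⟩
  obtain ⟨k, rfl⟩ := Nat.exists_eq_succ_of_ne_zero h0
  rw [← hget _ hu, ← List.getElem_tail (h := by rw [List.length_tail]; omega)]
  exact List.getElem_mem _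

theorem eG_ne_one {u : ℕ} (h : u < 2048) (h0 : u ≠ 0) : eG u ≠ 1 := by
  refine (rep_eG u).ne rep_one fun e => ?_
  have := List.all_eq_true.1 tab_checks.1 _ ((tab_bs h).2 h0)
  simp [e] at this

theorem card_gE : Nat.card gE = 2048 := by
  have e : Nat.card gE = Nat.card (Fin 2048) := by
    refine (Nat.card_eq_of_bijective (fun u : Fin 2048 => (⟨eG u, ⟨u, rfl⟩⟩ : gE)) ⟨?_, ?_⟩).symm
    · intro u w huw
      by_contra hne
      refine eG_ne_one (Nat.xor_lt_two_pow (n := 11) u.isLt w.isLt)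
        (fun e => hne (Fin.ext (by simpa using e))) ?_
      rw [eG_xor, show eG u = eG w from congrArg Subtype.val huw, eG_self]
    · rintro ⟨g, hg⟩
      obtain ⟨u, hu, rfl⟩ := mem_gE.1 hg
      exact ⟨⟨u, hu⟩, rfl⟩
  rw [e, Nat.card_fin]

theorem gE_le : gE ≤ gK := by
  rintro _ ⟨u, rfl⟩
  exact eL_mem bsG_mem u

theorem conj_maps {g : GL2} {L R : ℕ} {xs : List ℕ} (hg : Rep g L) (hg' : Rep g⁻¹ R)
    (h : (bsP.map (fun b => mP (mP L b) R) == xs.map (eLP bsP)) = true) (u : ℕ) :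
    g * eG u * g⁻¹ = eG (vmB xs u) := by
  refine @eL_map GL2 inferInstance bsG bs_sq bs_comm (MulAut.conj g).toMonoidHom bsG xs ?_ u
  have h1 : List.Forall₂ Rep (bsG.map (MulAut.conj g).toMonoidHom) (bsP.map fun b => mP (mP L b) R) := by
    rw [List.forall₂_map_left_iff, List.forall₂_map_right_iff]
    exact bsG_rep.imp fun a b hab => (hg.mul hab).mul hg'
  refine forall₂_eq h1 ?_
  rw [eq_of_beq h, List.forall₂_map_left_iff, List.forall₂_map_right_iff, List.forall₂_same]
  exact fun x _ => rep_eG x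

theorem conj_x (u : ℕ) : gX * eG u * gX⁻¹ = eG (vmB xE u) :=
  conj_maps rep_X (gX_inv.symm ▸ rep_X) act_checks.1 u

theorem conj_y (u : ℕ) : gY⁻¹ * eG u * gY⁻¹⁻¹ = eG (vmB yE u) :=
  conj_maps rep_Yi ((inv_inv gY).symm ▸ rep_Y) act_checks.2.1 u

theorem normalizes : gX ∈ normalizer (gE : Set GL2) ∧ gY ∈ normalizer (gE : Set GL2) := by
  refine ⟨mem_normalizer_of_conj_le ?_, ?_⟩
  · rintro _ ⟨u, rfl⟩; exact ⟨_, (conj_x u).symm⟩
  · rw [← inv_mem_iff]
    refine mem_normalizer_of_conj_le ?_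
    rintro _ ⟨u, rfl⟩; exact ⟨_, (conj_y u).symm⟩

/-- A subgroup invariant under x and y that meets the abelian subgroup contains it. -/
theorem gE_le_of_invariant {A : Subgroup GL2} (hx : ∀ a ∈ A, gX * a * gX⁻¹ ∈ A)
    (hy : ∀ a ∈ A, gY⁻¹ * a * gY⁻¹⁻¹ ∈ A) {g : GL2} (hg : g ∈ A) (hgE : g ∈ gE) (hne : g ≠ 1) :
    gE ≤ A := by
  obtain ⟨u, hu, rfl⟩ := mem_gE.1 hgE
  have hall := invariant_all (W := fun a => eG a ∈ A) (by rw [eG_zero]; exact A.one_mem)
    (fun a b ha hb => by rw [eG_xor]; exact A.mul_mem ha hb)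
    (fun k a ha => by
      rw [stepE]
      split_ifs
      · rw [← conj_x]; exact hx _ ha
      · rw [← conj_y]; exact hy _ ha)
    (fun e => hne (by rw [e, eG_zero])) hu hg
  intro a ha
  obtain ⟨w, hw, rfl⟩ := mem_gE.1 ha
  exact hall w hw

theorem exists_not_commute : ∃ b ∈ gE, gX * b ≠ b * gX := by
  have hlen := bsG_length
  have hlenP : bsP.length = 11 := fix_checks.2.1
  have hr : Rep (bsG[0]'(by omega)) (bsP.getD 0 idP) := by
    rw [List.getD_eq_getElem _ _ (by omega)]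
    exact bsG_rep.get (by omega) (by omega)
  refine ⟨_, mem_of_bs (List.getElem_mem (by omega)), (rep_X.mul hr).ne (hr.mul rep_X) fun e => ?_⟩
  have h := act_checks.2.2
  rw [e] at h
  simp at h

theorem gP_mem : gP ∈ gE := by
  have hlen := bsG_length
  have hlenP : bsP.length = 11 := fix_checks.2.1
  have hr : Rep (bsG[0]'(by omega)) (bsP.getD 0 idP) := by
    rw [List.getD_eq_getElem _ _ (by omega)]
    exact bsG_rep.get (by omega) (by omega)
  rw [rep_P.eq hr (Nat.eq_of_beq_eq_true base_checks.2.1).symm]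
  exact mem_of_bs (List.getElem_mem _)

end CfsgLib.J4G
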