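import Cfsg.Agent.Lib.J4G.Elementary
import Mathlib.Data.Matrix.Mul
import Mathlib.Algebra.Ring.Parity

/-!
# One fixed vector, so no element of odd order centralises the abelian subgroup
-/

set_option autoImplicit false
set_option maxRecDepth 100000

namespace CfsgLib.J4G

open CfsgLib.J4P Matrix

/-- Row vectors. -/
abbrev Row : Type := Fin 112 → ZMod 2

theorem row_add_self (w : Row) : w + w = 0 := by
  funext i
  simp only [Pi.add_apply, Pi.zero_apply]
  generalize w i = a
  revert a
  decide

theorem goodP_xor {A B : ℕ} (hA : goodP A = true) (hB : goodP B = true) : goodP (A ^^^ B) = true := by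
  rw [goodP, Nat.beq_eq] at hA hB
  rw [← hA, ← hB, packR_xor (by simp [rowsP]) (rowsP_ok A).2 (rowsP_ok B).2]
  refine goodP_packR ⟨by simp [rowsP], fun a ha => ?_⟩
  obtain ⟨i, hi, rfl⟩ := List.getElem_of_mem ha
  rw [List.getElem_zipWith]
  exact Nat.xor_lt_two_pow ((rowsP_ok A).2 _ (List.getElem_mem _)) ((rowsP_ok B).2 _ (List.getElem_mem _))

theorem bsP_fix {w : Row} (h : ∀ b ∈ bsG, w ᵥ* (b : Matrix (Fin 112) (Fin 112) (ZMod 2)) = w) :
    ∀ P ∈ bsP, goodP P = true ∧ w ᵥ* toMatP P = w := by
  intro P hP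
  obtain ⟨i, hi, rfl⟩ := List.getElem_of_mem hP
  have hr : Rep (bsG[i]'(bsG_rep.length_eq ▸ hi)) bsP[i] := bsG_rep.get (bsG_rep.length_eq ▸ hi) hi
  exact ⟨hr.1, by rw [← hr.2]; exact h _ (List.getElem_mem _)⟩

theorem fixed_last {w : Row} (h : ∀ b ∈ bsG, w ᵥ* (b : Matrix (Fin 112) (Fin 112) (ZMod 2)) = w)
    (j : Fin 112) (hj : j.val < 111) : w j = 0 := by
  have key : ∀ (l : List (ℕ × ℕ)) (a : ℕ), (∀ p ∈ l, p.1 ∈ bsP) →
      w ᵥ* toMatP (l.foldl (fun a p => Nat.xor a (mP (Nat.xor p.1 idP) p.2)) a) = w ᵥ* toMatP a := by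
    intro l
    induction l with
    | nil => intro a _; rfl
    | cons p l ih =>
      intro a hl
      obtain ⟨hgood, hfix⟩ := bsP_fix h _ (hl p List.mem_cons_self)
      rw [List.foldl_cons, ih _ fun q hq => hl q (List.mem_cons_of_mem _ hq)]
      show w ᵥ* toMatP (a ^^^ mP (p.1 ^^^ idP) p.2) = _
      rw [toMatP_xor, (mP_spec (goodP_xor hgood goodP_id)).2, toMatP_xor, toMatP_id, vecMul_add,
        ← vecMul_vecMul, vecMul_add, hfix, vecMul_one, row_add_self, zero_vecMul, add_zero]
  have e := key (List.zip bsP fixC) 0 fun p hp => (List.of_mem_zip hp).1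
  change w ᵥ* toMatP fixSum = _ at e
  rw [Nat.eq_of_beq_eq_true fix_checks.1] at e
  have e0 : toMatP 0 = 0 := Matrix.ext fun a b => by simp [toMatP, bitZ]
  have hd : ∀ i k : Fin 112, toMatP dP i k = if i = k ∧ k.val < 111 then 1 else 0 := by
    intro i k
    have hb : ∀ a ∈ (List.range 112).map (fun j => if Nat.blt j 111 then 2 ^ j else 0), a < 2 ^ 112 := by
      intro a ha
      obtain ⟨j, hj', rfl⟩ := List.mem_map.1 ha
      split_ifs
      · exact Nat.pow_lt_pow_right (by norm_num) (List.mem_range.1 hj')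
      · exact Nat.two_pow_pos 112
    rw [dP, toMatP_packR hb, toMatB, Matrix.of_apply, List.getD_eq_getElem _ _ (by simp),
      List.getElem_map, List.getElem_range]
    by_cases hi : i.val < 111
    · rw [if_pos (by simpa using hi)]
      by_cases hik : i = k
      · subst hik; simp [hi, bitZ, Nat.testBit_two_pow_self]
      · rw [Nat.testBit_two_pow_of_ne fun e => hik (Fin.ext e), if_neg fun c => hik c.1]; rfl
    · rw [if_neg (by simpa using hi), if_neg fun (c : i = k ∧ k.val < 111) => hi (c.1 ▸ c.2)]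
      simp [bitZ]
  have ej := congrFun e j
  rw [e0, vecMul_zero, Pi.zero_apply] at ej
  rw [← ej, vecMul, dotProduct, Finset.sum_eq_single j (fun i _ hne => by
    rw [hd, if_neg (fun (c : i = j ∧ j.val < 111) => hne c.1), mul_zero]) (by simp), hd, if_pos ⟨rfl, hj⟩, mul_one]

theorem fixed_unique {u w : Row} (hu : ∀ b ∈ bsG, u ᵥ* (b : Matrix (Fin 112) (Fin 112) (ZMod 2)) = u)
    (hw : ∀ b ∈ bsG, w ᵥ* (b : Matrix (Fin 112) (Fin 112) (ZMod 2)) = w) (hu0 : u ≠ 0) (hw0 : w ≠ 0) :
    u = w := by
  have hne : ∀ {z : Row}, (∀ b ∈ bsG, z ᵥ* (b : Matrix (Fin 112) (Fin 112) (ZMod 2)) = z) → z ≠ 0 →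
      ∀ j : Fin 112, z j = if j.val < 111 then 0 else 1 := by
    intro z hz hz0 j
    by_cases hj : j.val < 111
    · rw [if_pos hj]; exact fixed_last hz j hj
    · rw [if_neg hj]
      by_contra hj1
      refine hz0 (funext fun k => ?_)
      by_cases hk : k.val < 111
      · exact fixed_last hz k hk
      · rw [Fin.ext (show k.val = j.val by omega), Pi.zero_apply]
        revert hj1
        generalize z j = a
        revert a
        decide
  funext j
  rw [hne hu hu0 j, hne hw hw0 j]

/-- An element of odd order commuting with the abelian subgroup is trivial. -/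
theorem odd_centralizer {g : GL2} (hc : ∀ b ∈ gE, Commute g b) {n : ℕ} (hn : Odd n) (hg : g ^ n = 1) :
    g = 1 := by
  by_contra hne
  set M : Matrix (Fin 112) (Fin 112) (ZMod 2) := (g : Matrix (Fin 112) (Fin 112) (ZMod 2)) with hM
  have hMn : M ^ n = 1 := by rw [hM, ← Units.val_pow_eq_pow_val, hg, Units.val_one]
  let S : Matrix (Fin 112) (Fin 112) (ZMod 2) := ∑ i ∈ Finset.range n, M ^ i
  have hMS : M * S = S := by
    have h1 := Finset.sum_range_succ' (fun i => M ^ i) n
    rw [Finset.sum_range_succ, hMn, pow_zero] at h1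
    have h2 : S = ∑ k ∈ Finset.range n, M ^ (k + 1) := add_right_cancel h1
    rw [Finset.mul_sum]
    conv_rhs => rw [h2]
    exact Finset.sum_congr rfl fun i _ => (pow_succ' M i).symm
  obtain ⟨w, hw⟩ : ∃ w : Row, w ᵥ* M ≠ w := by
    by_contra h
    push Not at h
    refine hne (Units.ext (Matrix.ext fun i j => ?_))
    have := congrFun (h (Pi.single i 1)) j
    rw [single_one_vecMul] at this
    rw [Units.val_one, one_apply]
    rw [Matrix.row_apply] at this
    show M i j = _
    rw [this, Pi.single_apply]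
    simp [eq_comm]
  have hS : ∀ b ∈ bsG, Commute (b : Matrix (Fin 112) (Fin 112) (ZMod 2)) S := fun b hb => by
    refine Commute.sum_right _ _ _ fun i _ => Commute.pow_right ?_ i
    have := congrArg Units.val (hc b (mem_of_bs hb)).symm.eq
    rwa [Units.val_mul, Units.val_mul] at this
  have iter : ∀ l : List GL2, (∀ b ∈ l, b ∈ bsG) → ∃ u : Row, u ≠ 0 ∧ u ᵥ* S = 0 ∧
      ∀ b ∈ l, u ᵥ* (b : Matrix (Fin 112) (Fin 112) (ZMod 2)) = u := by
    intro l
    induction l with
    | nil =>
      refine fun _ => ⟨w ᵥ* M + w, fun h => hw ?_, ?_, fun b hb => by simp at hb⟩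
      · have := congrArg (· + w) h
        simpa [add_assoc, row_add_self] using this
      · rw [add_vecMul, vecMul_vecMul, hMS, row_add_self]
    | cons b l ih =>
      intro hl
      obtain ⟨u, hu0, huS, hul⟩ := ih fun c hc' => hl c (List.mem_cons_of_mem _ hc')
      have hb := hl b List.mem_cons_self
      set B := (b : Matrix (Fin 112) (Fin 112) (ZMod 2))
      by_cases hub : u ᵥ* B = u
      · refine ⟨u, hu0, huS, fun c hc' => ?_⟩
        rcases List.mem_cons.1 hc' with rfl | hc'
        exacts [hub, hul c hc']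
      · refine ⟨u ᵥ* B + u, fun h => hub ?_, ?_, fun c hc' => ?_⟩
        · have := congrArg (· + u) h
          simpa [add_assoc, row_add_self] using this
        · rw [add_vecMul, vecMul_vecMul, (hS b hb).eq, ← vecMul_vecMul, huS, zero_vecMul, add_zero]
        · rcases List.mem_cons.1 hc' with rfl | hc'
          · rw [add_vecMul, vecMul_vecMul, ← Units.val_mul, bs_sq c hb, Units.val_one, vecMul_one,
              add_comm]
          · have hcb := hl c (List.mem_cons_of_mem _ hc')
            have e : B * (c : Matrix (Fin 112) (Fin 112) (ZMod 2)) = c * B := by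
              have := congrArg Units.val (bs_comm b hb c hcb).eq
              rwa [Units.val_mul, Units.val_mul] at this
            rw [add_vecMul, vecMul_vecMul, e, ← vecMul_vecMul, hul c hc']
  obtain ⟨u, hu0, huS, hub⟩ := iter bsG fun _ h => h
  have hug : ∀ b ∈ bsG, (u ᵥ* M) ᵥ* (b : Matrix (Fin 112) (Fin 112) (ZMod 2)) = u ᵥ* M := fun b hb => by
    have := congrArg Units.val (hc b (mem_of_bs hb)).eq
    rw [Units.val_mul, Units.val_mul] at this
    rw [vecMul_vecMul, this, ← vecMul_vecMul, hub b hb]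
  have huM : u ᵥ* M = u := by
    refine fixed_unique hug hub (fun h => hu0 ?_) hu0
    have := congrArg (· ᵥ* ((g⁻¹ : GL2) : Matrix (Fin 112) (Fin 112) (ZMod 2))) h
    simpa [hM, vecMul_vecMul] using this
  have hpow : ∀ i : ℕ, u ᵥ* M ^ i = u := fun i => by
    induction i with
    | zero => rw [pow_zero, vecMul_one]
    | succ i ih => rw [pow_succ, ← vecMul_vecMul, ih, huM]
  have hodd : u ᵥ* S = u := by
    rw [vecMul_sum, Finset.sum_congr rfl fun i _ => hpow i, Finset.sum_const, Finset.card_range]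
    obtain ⟨m, rfl⟩ := hn
    rw [succ_nsmul, two_mul, add_nsmul, row_add_self, zero_add]
  exact hu0 (hodd.symm.trans huS)

end CfsgLib.J4G
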