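import Mathlib.Algebra.Group.Subgroup.Pointwise
import Mathlib.GroupTheory.Index
import Mathlib.GroupTheory.Perm.Sign
import Mathlib.Data.Nat.Bitwise
import Mathlib.Data.Set.Card
import Cfsg.Agent.Lib.J4P.BitMat

/-!
# Generalities for products of subgroups and subsets of an elementary abelian group
-/

set_option autoImplicit false

namespace CfsgLib.J4G

open Subgroup

variable {G : Type*} [Group G]

/-- The order of a product of two subgroups meeting trivially, one normalising the other. -/
theorem card_sup_disjoint {A B : Subgroup G} (h : B ≤ normalizer (A : Set G)) (hd : Disjoint A B) :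
    Nat.card ↥(A ⊔ B) = Nat.card A * Nat.card B := by
  have e : ((A ⊔ B : Subgroup G) : Set G) = (fun p : A × B => (p.1 : G) * p.2) '' Set.univ := by
    rw [coe_mul_of_right_le_normalizer_left _ _ h]
    ext g
    simp only [Set.mem_mul, SetLike.mem_coe, Set.image_univ, Set.mem_range, Prod.exists,
      Subtype.exists]
    constructor
    · rintro ⟨a, ha, b, hb, rfl⟩; exact ⟨a, ha, b, hb, rfl⟩
    · rintro ⟨a, ha, b, hb, rfl⟩; exact ⟨a, ha, b, hb, rfl⟩
  have : Nat.card ↥(A ⊔ B) = Nat.card ((fun p : A × B => (p.1 : G) * p.2) '' Set.univ) :=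
    Nat.card_congr (Equiv.setCongr e)
  rw [this, Nat.card_image_of_injective (mul_injective_of_disjoint hd), Nat.card_congr (Equiv.Set.univ _),
    Nat.card_prod]

/-- In a finite group it is enough to map a subgroup into itself. -/
theorem mem_normalizer_of_conj_le [Finite G] {A : Subgroup G} {g : G}
    (h : ∀ a ∈ A, g * a * g⁻¹ ∈ A) : g ∈ normalizer (A : Set G) := by
  rw [mem_normalizer_iff]
  refine fun a => ⟨h a, fun ha => ?_⟩
  let f : A → A := fun a => ⟨g * a * g⁻¹, h a a.2⟩
  have hf : Function.Injective f := fun a b e =>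
    Subtype.ext (mul_left_cancel (mul_right_cancel (congrArg Subtype.val e)))
  obtain ⟨b, hb⟩ := (Finite.surjective_of_injective hf) ⟨_, ha⟩
  have e : g * (b : G) * g⁻¹ = g * a * g⁻¹ := congrArg Subtype.val hb
  rw [mul_left_inj, mul_right_inj] at e
  exact e ▸ b.2

/-- The product of the members selected by bits. -/
def eL : List G → ℕ → G
  | [], _ => 1
  | b :: l, u => if Nat.beq (u % 2) 1 then b * eL l (u / 2) else eL l (u / 2)

theorem eL_mem {S : Subgroup G} : ∀ {l : List G}, (∀ b ∈ l, b ∈ S) → ∀ u, eL l u ∈ S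
  | [], _, _ => S.one_mem
  | b :: l, h, u => by
    have ih := eL_mem (l := l) (fun c hc => h c (List.mem_cons_of_mem _ hc)) (u / 2)
    rw [eL]
    split_ifs
    · exact S.mul_mem (h b List.mem_cons_self) ih
    · exact ih

theorem eL_zero : ∀ l : List G, eL l 0 = 1
  | [] => rfl
  | b :: l => by rw [eL, if_neg (by simp), Nat.zero_div, eL_zero l]

theorem eL_commute : ∀ {l : List G} {c : G}, (∀ b ∈ l, Commute c b) → ∀ u, Commute c (eL l u)
  | [], c, _, _ => Commute.one_right c
  | b :: l, c, h, u => by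
    have ih := eL_commute (l := l) (fun d hd => h d (List.mem_cons_of_mem _ hd)) (u / 2)
    rw [eL]
    split_ifs
    · exact (h b List.mem_cons_self).mul_right ih
    · exact ih

theorem eL_xor : ∀ {l : List G}, (∀ a ∈ l, a * a = 1) → (∀ a ∈ l, ∀ b ∈ l, Commute a b) →
    ∀ u w, eL l (u ^^^ w) = eL l u * eL l w
  | [], _, _, u, w => (one_mul 1).symm
  | b :: l, h2, hc, u, w => by
    have ih := eL_xor (l := l) (fun c hc' => h2 c (List.mem_cons_of_mem _ hc'))
      (fun c hc' d hd => hc c (List.mem_cons_of_mem _ hc') d (List.mem_cons_of_mem _ hd)) (u / 2) (w / 2)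
    have hb := eL_commute (c := b) (l := l) (fun d hd => hc b List.mem_cons_self d (List.mem_cons_of_mem _ hd))
    have hbb := h2 b List.mem_cons_self
    have em : (u ^^^ w) % 2 = (u % 2) ^^^ (w % 2) := Nat.xor_mod_two_pow (n := 1)
    rw [eL, eL, eL, Nat.xor_div_two, ih, em]
    rcases Nat.mod_two_eq_zero_or_one u with eu | eu <;>
      rcases Nat.mod_two_eq_zero_or_one w with ew | ew <;> simp only [eu, ew]
    · simp
    · simp only [show (0 ^^^ 1 : ℕ) = 1 from rfl, show Nat.beq 1 1 = true from rfl,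
        show Nat.beq 0 1 = false from rfl, if_true, Bool.false_eq_true, if_false]
      rw [← mul_assoc, (hb (u / 2)).eq, mul_assoc]
    · simp [mul_assoc]
    · simp only [show (1 ^^^ 1 : ℕ) = 0 from rfl, show Nat.beq 1 1 = true from rfl,
        show Nat.beq 0 1 = false from rfl, if_true, Bool.false_eq_true, if_false]
      rw [mul_assoc, ← mul_assoc (eL l (u / 2)) b, ← (hb (u / 2)).eq, mul_assoc b, ← mul_assoc b b, hbb,
        one_mul]

/-- An endomorphism acts on the bits by a matrix. -/
theorem eL_map {bs : List G} (h2 : ∀ a ∈ bs, a * a = 1) (hc : ∀ a ∈ bs, ∀ b ∈ bs, Commute a b)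
    {c : G →* G} : ∀ {l : List G} {xs : List ℕ}, l.map c = xs.map (eL bs) → ∀ u,
      c (eL l u) = eL bs (CfsgLib.J4P.vmB xs u)
  | [], [], _, u => by rw [eL, CfsgLib.J4P.vmB, map_one, eL_zero]
  | [], _ :: _, h, _ => by simp at h
  | _ :: _, [], h, _ => by simp at h
  | b :: l, x :: xs, h, u => by
    simp only [List.map_cons, List.cons.injEq] at h
    have ih := eL_map h2 hc h.2 (u / 2)
    rw [eL, CfsgLib.J4P.vmB]
    split_ifs
    · rw [map_mul, ih, h.1, eL_xor h2 hc]
    · exact ih

end CfsgLib.J4G
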