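import Cfsg.Agent.Lib.J4G.Checks
import Cfsg.Agent.Lib.J4G.Products
import Cfsg.Agent.Lib.J4P.Rep

/-!
# The generators inside the invertible matrices
-/

set_option autoImplicit false
set_option maxRecDepth 100000

namespace CfsgLib.J4G

open Cfsg.Spor CfsgLib.J4P

/-- The image of x. -/
noncomputable def gX : GL2 := lu .x
/-- The image of y. -/
noncomputable def gY : GL2 := lu .y
/-- The image of t. -/
noncomputable def gT : GL2 := lu .t

theorem rho_of (g : J4.Gen) : rho (PresentedGroup.of g) = lu g := PresentedGroup.toGroup.of rels_lift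

theorem rowsOk_mat {i : ℕ} (hi : i < 6) : RowsOk (matJ.getD i []) := by
  obtain ⟨h, -⟩ := base_checks
  have h' := List.all_eq_true.1 h i (List.mem_range.2 hi)
  simp only [Bool.and_eq_true, Nat.beq_eq, List.all_eq_true] at h'
  exact ⟨h'.1, fun a ha => Nat.le_of_ble_eq_true (h'.2 a ha)⟩

theorem rep_letter (g : J4.Gen) (h : genLetter g < 6) : Rep (lu g) (letP (genLetter g)) :=
  ⟨goodP_packR (rowsOk_mat h), (toMatP_packR (rowsOk_mat h).2).symm⟩

theorem rep_X : Rep gX (letP 0) := rep_letter .x (by decide)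
theorem rep_Y : Rep gY (letP 2) := rep_letter .y (by decide)
theorem rep_T : Rep gT (letP 4) := rep_letter .t (by decide)

theorem rep_Yi : Rep gY⁻¹ (letP 3) :=
  ⟨goodP_packR (rowsOk_mat (i := 3) (by norm_num)), (toMatP_packR (rowsOk_mat (i := 3) (by norm_num)).2).symm⟩

theorem gX_inv : gX⁻¹ = gX := by
  refine inv_eq_of_mul_eq_one_right ((rep_X.mul rep_X).eq rep_one ?_)
  exact Nat.eq_of_beq_eq_true (by decide +kernel : Nat.beq (mP (letP 0) (letP 0)) idP = true)

theorem gT_sq : gT * gT = 1 := by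
  refine (rep_T.mul rep_T).eq rep_one ?_
  exact Nat.eq_of_beq_eq_true (by decide +kernel : Nat.beq (mP (letP 4) (letP 4)) idP = true)

/-- The conjugating element. -/
noncomputable def gW : GL2 := (gY * gX) ^ 4 * gY⁻¹ * gX

/-- The image of the element generating, with x and y, the point stabiliser. -/
noncomputable def gP : GL2 := (gY * gW⁻¹ * gT * gW) ^ 3

theorem rep_P : Rep gP p0P := by
  have hW : gW⁻¹ = gX * gY * (gX * gY⁻¹) ^ 4 := by
    rw [gW, mul_inv_rev, mul_inv_rev, ← inv_pow, mul_inv_rev, gX_inv, inv_inv, mul_assoc]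
  have hWr : Rep gW (mP (mP (powP (mP (letP 2) (letP 0)) 4) (letP 3)) (letP 0)) :=
    (((rep_Y.mul rep_X).pow 4).mul rep_Yi).mul rep_X
  have hWi : Rep gW⁻¹ (mP (mP (letP 0) (letP 2)) (powP (mP (letP 0) (letP 3)) 4)) :=
    hW ▸ (rep_X.mul rep_Y).mul ((rep_X.mul rep_Yi).pow 4)
  have h := (((rep_Y.mul hWi).mul rep_T).mul hWr).pow 3
  have e : Nat.beq p0P (powP (mP (mP (mP (letP 2) (mP (mP (letP 0) (letP 2)) (powP (mP (letP 0) (letP 3)) 4)))
      (letP 4)) (mP (mP (powP (mP (letP 2) (letP 0)) 4) (letP 3)) (letP 0))) 3) = true := by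
    decide +kernel
  rw [Nat.eq_of_beq_eq_true e]
  exact h

/-- The point stabiliser. -/
noncomputable def gK : Subgroup GL2 := Subgroup.closure {gX, gY, gP}

/-- The matrix group. -/
noncomputable def gJ : Subgroup GL2 := Subgroup.closure {gX, gY, gT}

theorem mem_gJ : gX ∈ gJ ∧ gY ∈ gJ ∧ gT ∈ gJ := by
  refine ⟨?_, ?_, ?_⟩ <;> exact Subgroup.subset_closure (by simp)

theorem gK_le : gK ≤ gJ := by
  obtain ⟨hx, hy, ht⟩ := mem_gJ
  rw [gK, Subgroup.closure_le]
  rintro g (rfl | rfl | rfl)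
  · exact hx
  · exact hy
  · have hw : gW ∈ gJ := mul_mem (mul_mem (pow_mem (mul_mem hy hx) 4) (inv_mem hy)) hx
    exact pow_mem (mul_mem (mul_mem (mul_mem hy (inv_mem hw)) ht) hw) 3

theorem rho_range : rho.range = gJ := by
  rw [MonoidHom.range_eq_map, ← PresentedGroup.closure_range_of jRels, MonoidHom.map_closure, gJ]
  refine congrArg Subgroup.closure (Set.ext fun g => ?_)
  simp only [Set.mem_image, Set.mem_range, Set.mem_insert_iff, Set.mem_singleton_iff]
  constructor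
  · rintro ⟨_, ⟨c, rfl⟩, rfl⟩
    rw [rho_of]
    cases c <;> simp [gX, gY, gT]
  · rintro (rfl | rfl | rfl)
    exacts [⟨_, ⟨.x, rfl⟩, rho_of _⟩, ⟨_, ⟨.y, rfl⟩, rho_of _⟩, ⟨_, ⟨.t, rfl⟩, rho_of _⟩]

theorem env_stab : ∀ P ∈ [letP 0, letP 2, letP 3], InS gK P := by
  have hx : gX ∈ gK := Subgroup.subset_closure (by simp)
  have hy : gY ∈ gK := Subgroup.subset_closure (by simp)
  intro P hP
  simp only [List.mem_cons, List.not_mem_nil, or_false] at hP
  rcases hP with rfl | rfl | rfl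
  exacts [⟨gX, hx, rep_X⟩, ⟨gY, hy, rep_Y⟩, ⟨gY⁻¹, inv_mem hy, rep_Yi⟩]

theorem bsP_mem : ∀ P ∈ bsP, InS gK P := by
  obtain ⟨-, h0, h, -⟩ := base_checks
  intro P hP
  rw [← eq_of_beq h] at hP
  obtain ⟨w, -, rfl⟩ := List.mem_map.1 hP
  refine InS.evalP (fun Q hQ => ?_) w
  simp only [envC, List.mem_cons, List.not_mem_nil, or_false] at hQ
  rcases hQ with rfl | rfl | rfl | rfl
  · exact env_stab _ (by simp)
  · exact env_stab _ (by simp)
  · exact env_stab _ (by simp)
  · rw [Nat.eq_of_beq_eq_true h0]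
    exact ⟨gP, Subgroup.subset_closure (by simp), rep_P⟩

theorem envK_mem : ∀ P ∈ envK, InS gK P := by
  intro P hP
  rcases List.mem_append.1 hP with hP | hP
  · exact InS.runP _ env_stab P hP
  · exact bsP_mem P hP

theorem envA_mem : ∀ P ∈ envA, InS gJ P := by
  intro P hP
  rcases List.mem_append.1 hP with hP | hP
  · obtain ⟨g, hg, hr⟩ := envK_mem P hP
    exact ⟨g, gK_le hg, hr⟩
  · rw [List.mem_singleton.1 hP]; exact ⟨gT, mem_gJ.2.2, rep_T⟩

end CfsgLib.J4G
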