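import Cfsg.Agent.Lib.J4G.Gens
import Cfsg.Agent.Lib.J4P.Main
import Cfsg.Agent.Lib.Golay.M24Sub

/-!
# The two first generators generate a copy of M24
-/

set_option autoImplicit false
set_option maxRecDepth 100000

namespace CfsgLib.J4G

open CfsgLib.J4P CfsgLib.HNxyz Subgroup

/-- The subgroup generated by x and y. -/
noncomputable def gM : Subgroup GL2 := closure {gX, gY}

/-- The pairs. -/
def duoG : Set (GL2 × Equiv.Perm Cfsg.GolayPt) := {(gX, px), (gY, py)}

/-- The first pair. -/
noncomputable def qa : ↥(closure duoG) := ⟨(gX, px), subset_closure (by simp [duoG])⟩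
/-- The second pair. -/
noncomputable def qb : ↥(closure duoG) := ⟨(gY, py), subset_closure (by simp [duoG])⟩

/-- The projection to matrices. -/
noncomputable def qfst : ↥(closure duoG) →* GL2 :=
  (MonoidHom.fst GL2 (Equiv.Perm Cfsg.GolayPt)).comp (closure duoG).subtype

/-- The projection to permutations. -/
noncomputable def qsnd : ↥(closure duoG) →* Equiv.Perm Cfsg.GolayPt :=
  (MonoidHom.snd GL2 (Equiv.Perm Cfsg.GolayPt)).comp (closure duoG).subtype

theorem rels_G : BaseRels gX gY := by
  intro w hw
  have h := xy_rels w hw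
  have e := CfsgLib.J4P.map_evalW rho
    [(PresentedGroup.of Cfsg.Spor.J4.Gen.x : Cfsg.Spor.J4), PresentedGroup.of Cfsg.Spor.J4.Gen.y] w
  rw [h, map_one, List.map_cons, List.map_cons, List.map_nil, rho_of, rho_of] at e
  exact e.symm

theorem rels_q : BaseRels qa qb := fun w hw => by
  refine Subtype.ext (Prod.ext ?_ ?_)
  · exact (CfsgLib.J4P.map_evalW qfst [qa, qb] w).trans (rels_G w hw)
  · exact (CfsgLib.J4P.map_evalW qsnd [qa, qb] w).trans (perm_rels w hw)

theorem top_q : closure {qa, qb} = ⊤ := by
  refine map_injective (closure duoG).subtype_injective ?_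
  rw [MonoidHom.map_closure, ← MonoidHom.range_eq_map, range_subtype,
    Set.image_insert_eq, Set.image_singleton]
  rfl

theorem qfst_range : qfst.range = gM := by
  rw [MonoidHom.range_eq_map, ← top_q, MonoidHom.map_closure, Set.image_insert_eq, Set.image_singleton]
  rfl

theorem gX_ne : gX ≠ 1 := by
  refine rep_X.ne rep_one ?_
  intro e
  have h : Nat.beq (letP 0) idP = false := by decide +kernel
  rw [e, Nat.beq_refl] at h
  exact absurd h (by simp)

theorem gM_iso : Nonempty (↥gM ≃* ↥Cfsg.M24) := by
  obtain ⟨hr, hinj⟩ := structure_thm rels_q top_q qsnd rfl rfl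
  let e : ↥(closure duoG) ≃* ↥Cfsg.M24 :=
    (MonoidHom.ofInjective hinj).trans (MulEquiv.subgroupCongr hr)
  have : IsSimpleGroup ↥Cfsg.M24 := CfsgLib.Golay.M24_simple
  have hf : Function.Injective qfst := by
    have hn : (qfst.ker.map e.toMonoidHom).Normal := Normal.map inferInstance _ e.surjective
    rcases IsSimpleGroup.eq_bot_or_eq_top_of_normal _ hn with h | h
    · exact (MonoidHom.ker_eq_bot_iff qfst).1 (map_injective e.injective (h.trans (Subgroup.map_bot _).symm))
    · exfalso
      have hk : qfst.ker = ⊤ := map_injective e.injective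
        (h.trans (map_top_of_surjective _ e.surjective).symm)
      exact gX_ne (MonoidHom.mem_ker.1 (hk.symm ▸ mem_top qa : qa ∈ qfst.ker))
  exact ⟨((MonoidHom.ofInjective hf).trans (MulEquiv.subgroupCongr qfst_range)).symm.trans e⟩

theorem card_gM : Nat.card gM = 244823040 := by
  obtain ⟨e⟩ := gM_iso
  rw [Nat.card_congr e.toEquiv, CfsgLib.Golay.card_M24]

theorem gM_simple : IsSimpleGroup gM := by
  obtain ⟨e⟩ := gM_iso
  have : IsSimpleGroup ↥Cfsg.M24 := CfsgLib.Golay.M24_simple
  have : Nontrivial gM := e.toEquiv.nontrivial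
  exact IsSimpleGroup.isSimpleGroup_of_surjective e.symm.toMonoidHom e.symm.surjective

end CfsgLib.J4G
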