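import Cfsg.Agent.Lib.J4G.Stabiliser
import Mathlib.GroupTheory.PGroup

/-!
# A lower bound for the order of the matrix group
-/

set_option autoImplicit false
set_option maxRecDepth 100000

namespace CfsgLib.J4G

open Subgroup

theorem orderOf_dvd_gJ {g : GL2} (hg : g ∈ gJ) : orderOf g ∣ Nat.card gJ := by
  have h : orderOf (⟨g, hg⟩ : gJ) ∣ Nat.card gJ := orderOf_dvd_natCard _
  rwa [Subgroup.orderOf_mk] at h

theorem prime_dvd {p : ℕ} {w : List ℕ} (hp : p.Prime) (h : (p, w) ∈ List.zip [29, 31, 37, 43] ordW) :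
    p ∣ Nat.card gJ := by
  obtain ⟨g, hg, hr⟩ := InS.evalP envA_mem w
  have e := hr.order hp (List.all_eq_true.1 order_checks (p, w) h)
  exact e ▸ orderOf_dvd_gJ hg

theorem disjoint_zpowers {G : Type*} [Group G] {A : Subgroup G} {x : G} {p : ℕ} (hp : p.Prime)
    (hx : orderOf x = p) (h : x ∉ A) : Disjoint A (zpowers x) := by
  rw [disjoint_def]
  intro y hyA hy
  obtain ⟨k, rfl⟩ := mem_zpowers_iff.1 hy
  by_contra hne
  have hdvd : orderOf (x ^ k) ∣ p := hx ▸ orderOf_dvd_of_mem_zpowers hy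
  have he : orderOf (x ^ k) = p :=
    ((Nat.dvd_prime hp).1 hdvd).resolve_left fun e => hne (orderOf_eq_one_iff.1 e)
  have : Finite (zpowers x) := Nat.finite_of_card_ne_zero (by rw [Nat.card_zpowers, hx]; exact hp.ne_zero)
  have heq : zpowers (x ^ k) = zpowers x :=
    eq_of_le_of_card_ge (zpowers_le.2 hy) (by rw [Nat.card_zpowers, Nat.card_zpowers, he, hx])
  exact h (zpowers_le.2 hyA (heq.symm ▸ mem_zpowers x))

theorem cube_dvd {G : Type*} [Group G] [Finite G] {p : ℕ} [hp : Fact p.Prime] {H : Subgroup G}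
    {a b c : G} (ha : a ∈ H) (hb : b ∈ H) (hc : c ∈ H) (pa : a ^ p = 1) (pb : b ^ p = 1) (pc : c ^ p = 1)
    (e_bac : b * a * c = a * b) (e_ac : Commute a c) (e_bc : Commute b c) (hcne : c ≠ 1) :
    p * p * p ∣ Nat.card H := by
  have hab : ¬ Commute a b := fun e =>
    hcne (mul_left_cancel (a := b * a) ((e_bac.trans e.eq).trans (mul_one (b * a)).symm))
  have oa : orderOf a = p := orderOf_eq_prime pa fun e => hab (by rw [e]; exact Commute.one_left b)
  have ob : orderOf b = p := orderOf_eq_prime pb fun e => hab (by rw [e]; exact Commute.one_right a)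
  have oc : orderOf c = p := orderOf_eq_prime pc hcne
  have hca : c ∉ zpowers a := by
    intro hm
    have he : zpowers c = zpowers a :=
      eq_of_le_of_card_ge (zpowers_le.2 hm) (by rw [Nat.card_zpowers, Nat.card_zpowers, oa, oc])
    obtain ⟨k, hk⟩ := mem_zpowers_iff.1 (he.symm ▸ mem_zpowers a : a ∈ zpowers c)
    refine hab ?_
    rw [← hk]
    exact e_bc.symm.zpow_left k
  have hnc : zpowers c ≤ normalizer (zpowers a : Set G) := zpowers_le.2 (mem_normalizer_of_conj_le
    fun x hx => by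
      obtain ⟨k, rfl⟩ := mem_zpowers_iff.1 hx
      rw [(e_ac.symm.zpow_right k).eq, mul_inv_cancel_right]
      exact zpow_mem (mem_zpowers a) k)
  have hcA : zpowers a ⊔ zpowers c ≤ centralizer {a} := sup_le
    (zpowers_le.2 (mem_centralizer_singleton_iff.2 rfl))
    (zpowers_le.2 (mem_centralizer_singleton_iff.2 e_ac.eq.symm))
  have hbA : b ∉ zpowers a ⊔ zpowers c := fun hm => by
    have h := mem_centralizer_singleton_iff.1 (hcA hm)
    exact hab h.symm
  have hnb : zpowers b ≤ normalizer ((zpowers a ⊔ zpowers c : Subgroup G) : Set G) :=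
    zpowers_le.2 (mem_normalizer_of_conj_le (by
      have hle : zpowers a ⊔ zpowers c ≤
          (zpowers a ⊔ zpowers c : Subgroup G).comap (MulAut.conj b).toMonoidHom := by
        refine sup_le (zpowers_le.2 ?_) (zpowers_le.2 ?_)
        · show b * a * b⁻¹ ∈ zpowers a ⊔ zpowers c
          have e : b * a * b⁻¹ = a * c⁻¹ :=
            calc b * a * b⁻¹ = b * a * c * (b * c)⁻¹ := by group
              _ = a * b * (c * b)⁻¹ := by rw [e_bac, e_bc.eq]
              _ = a * c⁻¹ := by group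
          rw [e]
          exact mul_mem (mem_sup_left (mem_zpowers a)) (inv_mem (mem_sup_right (mem_zpowers c)))
        · show b * c * b⁻¹ ∈ zpowers a ⊔ zpowers c
          rw [e_bc.eq, mul_inv_cancel_right]
          exact mem_sup_right (mem_zpowers c)
      exact fun x hx => hle hx))
  have hle : zpowers a ⊔ zpowers c ⊔ zpowers b ≤ H :=
    sup_le (sup_le (zpowers_le.2 ha) (zpowers_le.2 hc)) (zpowers_le.2 hb)
  have := card_dvd_of_le hle
  rwa [card_sup_disjoint hnb (disjoint_zpowers hp.out ob hbA),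
    card_sup_disjoint hnc (disjoint_zpowers hp.out oc hca), Nat.card_zpowers, Nat.card_zpowers,
    Nat.card_zpowers, oa, ob, oc] at this

theorem eleven_dvd : 1331 ∣ Nat.card gJ := by
  obtain ⟨a, ha, ra⟩ := InS.evalP envA_mem aW
  obtain ⟨b, hb, rb⟩ := InS.evalP envA_mem bW
  have rc := ((ra.pow 10).mul (rb.pow 10)).mul (ra.mul rb)
  have hc : a ^ 10 * b ^ 10 * (a * b) ∈ gJ := mul_mem (mul_mem (pow_mem ha 10) (pow_mem hb 10)) (mul_mem ha hb)
  have h := eleven_checks
  simp only [Bool.and_eq_true, Bool.not_eq_true', Nat.beq_eq] at h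
  obtain ⟨⟨⟨⟨⟨⟨ha11, hb11⟩, hc11⟩, hc1⟩, hbac⟩, hac⟩, hbc⟩ := h
  have : Fact (Nat.Prime 11) := ⟨by norm_num⟩
  have e := @cube_dvd GL2 inferInstance inferInstance 11 _ gJ a b _ ha hb hc
    ((ra.pow 11).eq rep_one ha11) ((rb.pow 11).eq rep_one hb11) ((rc.pow 11).eq rep_one hc11)
    (((rb.mul ra).mul rc).eq (ra.mul rb) hbac) ((ra.mul rc).eq (rc.mul ra) hac)
    ((rb.mul rc).eq (rc.mul rb) hbc) (rc.ne rep_one fun e => by simp [e] at hc1)
  exact e

/-- The order of the point stabiliser times the index divides the order of the group. -/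
theorem gJ_lower : 86775571046077562880 ∣ Nat.card gJ := by
  have h0 : 45581598720 ∣ Nat.card gJ := by
    refine dvd_trans ?_ (card_dvd_of_le gK_le)
    rw [card_gK]
    exact ⟨11, by norm_num⟩
  have hlen : ordW.length = 4 := rfl
  have hp : ∀ i (hi : i < 4), ([29, 31, 37, 43].getD i 0, ordW.getD i []) ∈
      List.zip [29, 31, 37, 43] ordW := fun i hi => by
    rw [List.getD_eq_getElem _ _ (by simpa using hi), List.getD_eq_getElem _ _ (hlen ▸ hi)]
    exact List.mem_iff_getElem.2 ⟨i, by simpa [hlen] using hi, List.getElem_zip⟩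
  rw [show 86775571046077562880 = 45581598720 * 1331 * 29 * 31 * 37 * 43 by norm_num]
  refine Nat.Coprime.mul_dvd_of_dvd_of_dvd (by norm_num) (Nat.Coprime.mul_dvd_of_dvd_of_dvd (by norm_num)
    (Nat.Coprime.mul_dvd_of_dvd_of_dvd (by norm_num) (Nat.Coprime.mul_dvd_of_dvd_of_dvd (by norm_num)
      (Nat.Coprime.mul_dvd_of_dvd_of_dvd (by norm_num) h0 eleven_dvd) ?_) ?_) ?_) ?_
  · exact prime_dvd (by norm_num) (hp 0 (by norm_num))
  · exact prime_dvd (by norm_num) (hp 1 (by norm_num))
  · exact prime_dvd (by norm_num) (hp 2 (by norm_num))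
  · exact prime_dvd (by norm_num) (hp 3 (by norm_num))

end CfsgLib.J4G
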