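import Cfsg.Agent.Lib.J4P.BitMat
import Mathlib.Data.Nat.Bitwise
import Mathlib.Tactic.Ring

/-!
# Matrices over two elements packed in one number

A matrix of degree 112 is the number whose bit `112 i + j` is the entry at `(i, j)`; the product
with a matrix given by its rows takes 112 steps of arithmetic on numbers.
-/

set_option autoImplicit false
set_option maxRecDepth 100000

namespace CfsgLib.J4G

open CfsgLib.J4P

/-- The matrix of a packed number. -/
def toMatP (P : ℕ) : Matrix (Fin 112) (Fin 112) (ZMod 2) :=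
  Matrix.of fun i j => bitZ (P.testBit (112 * i.val + j.val))

/-- Rows in one number. -/
def packR : List ℕ → ℕ
  | [] => 0
  | r :: rs => r + 2 ^ 112 * packR rs

/-- One bit in each of the first slots. -/
def spreadR : ℕ → ℕ
  | 0 => 0
  | n + 1 => 1 + 2 ^ 112 * spreadR n

/-- The packed identity. -/
def idP : ℕ := packR (idB 112)

/-- One bit in each of the 112 slots, as a numeral. -/
def spread112 : ℕ := spreadR 112

/-- The product of a packed matrix with a matrix given by rows; `s` is the spread mask. -/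
noncomputable def mulP (s : ℕ) (rs : List ℕ) : ℕ → ℕ :=
  List.rec (fun _ => 0) (fun r _ ih A => Nat.xor (Nat.land A s * r) (ih (Nat.shiftRight A 1))) rs

/-- Bounded rows. -/
def RowsOk (A : List ℕ) : Prop := A.length = 112 ∧ ∀ a ∈ A, a < 2 ^ 112

theorem testBit_packR : ∀ {A : List ℕ}, (∀ a ∈ A, a < 2 ^ 112) → ∀ (i j : ℕ), j < 112 →
    (packR A).testBit (112 * i + j) = (A.getD i 0).testBit j
  | [], _, i, j, _ => by simp [packR]
  | r :: rs, h, i, j, hj => by
    have hr := h r List.mem_cons_self
    rw [packR, add_comm, Nat.testBit_two_pow_mul_add _ hr]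
    cases i with
    | zero => rw [if_pos (by omega)]; simp
    | succ i =>
      rw [if_neg (by omega), show 112 * (i + 1) + j - 112 = 112 * i + j by omega,
        testBit_packR (fun a ha => h a (List.mem_cons_of_mem _ ha)) i j hj, List.getD_cons_succ]

theorem toMatP_packR {A : List ℕ} (h : ∀ a ∈ A, a < 2 ^ 112) : toMatP (packR A) = toMatB 112 A := by
  refine Matrix.ext fun i j => ?_
  simp only [toMatP, toMatB, Matrix.of_apply, testBit_packR h i.val j.val j.isLt]

theorem slot_head {r R k : ℕ} (hr : r < 2 ^ 112) (hk : k < 112) (S : ℕ) :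
    ((r + 2 ^ 112 * R) >>> k) &&& (1 + 2 ^ 112 * S) = r / 2 ^ k % 2 + 2 ^ 112 * ((R >>> k) &&& S) := by
  refine Nat.eq_of_testBit_eq fun i => ?_
  rw [Nat.testBit_and, Nat.testBit_shiftRight, add_comm r, Nat.testBit_two_pow_mul_add _ hr,
    add_comm 1, Nat.testBit_two_pow_mul_add _ (show 1 < 2 ^ 112 by norm_num),
    add_comm (r / 2 ^ k % 2), Nat.testBit_two_pow_mul_add _ (lt_trans (Nat.mod_lt _ (by norm_num))
      (show 2 < 2 ^ 112 by norm_num))]
  by_cases hi : i < 112
  · simp only [hi, if_true]
    cases i with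
    | zero =>
      simp only [add_zero, if_pos hk, Nat.testBit_one_zero, Bool.and_true]
      rw [Nat.testBit_zero, Nat.testBit_eq_decide_div_mod_eq, Nat.mod_mod]
    | succ i =>
      have h1 : Nat.testBit 1 (i + 1) = false :=
        Nat.testBit_eq_false_of_lt (Nat.one_lt_two_pow (Nat.succ_ne_zero i))
      have h2 : (r / 2 ^ k % 2).testBit (i + 1) = false :=
        Nat.testBit_eq_false_of_lt (lt_of_lt_of_le (Nat.mod_lt _ (by norm_num))
          (Nat.one_lt_two_pow (Nat.succ_ne_zero i)))
      rw [h1, h2, Bool.and_false]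
  · simp only [hi, if_false, if_neg (show ¬ k + i < 112 by omega)]
    rw [Nat.testBit_and, Nat.testBit_shiftRight, show k + i - 112 = k + (i - 112) by omega]

theorem slots_eq : ∀ {A : List ℕ} {k : ℕ}, (∀ a ∈ A, a < 2 ^ 112) → k < 112 →
    (packR A >>> k) &&& spreadR A.length = packR (A.map fun a => a / 2 ^ k % 2)
  | [], k, _, _ => by simp [packR, spreadR]
  | r :: rs, k, h, hk => by
    rw [List.length_cons, List.map_cons, packR, packR, spreadR, slot_head (h r List.mem_cons_self) hk,
      slots_eq (fun a ha => h a (List.mem_cons_of_mem _ ha)) hk]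

theorem packR_mul (r : ℕ) : ∀ A : List ℕ, packR A * r = packR (A.map (· * r))
  | [] => by simp [packR]
  | a :: A => by rw [List.map_cons, packR, packR, ← packR_mul r A]; ring

theorem packR_xor : ∀ {U W : List ℕ}, U.length = W.length → (∀ a ∈ U, a < 2 ^ 112) →
    (∀ a ∈ W, a < 2 ^ 112) → packR U ^^^ packR W = packR (List.zipWith (· ^^^ ·) U W)
  | [], [], _, _, _ => by simp [packR]
  | [], _ :: _, h, _, _ => by simp at h
  | _ :: _, [], h, _, _ => by simp at h
  | u :: U, w :: W, h, hu, hw => by
    have ih := packR_xor (U := U) (W := W) (by simpa using h)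
      (fun a ha => hu a (List.mem_cons_of_mem _ ha)) (fun a ha => hw a (List.mem_cons_of_mem _ ha))
    have h1 := hu u List.mem_cons_self
    have h2 := hw w List.mem_cons_self
    rw [List.zipWith_cons_cons, packR, packR, packR, ← ih]
    refine Nat.eq_of_testBit_eq fun i => ?_
    rw [Nat.testBit_xor, add_comm u, add_comm w, add_comm (u ^^^ w),
      Nat.testBit_two_pow_mul_add _ h1, Nat.testBit_two_pow_mul_add _ h2,
      Nat.testBit_two_pow_mul_add _ (Nat.xor_lt_two_pow h1 h2)]
    by_cases hi : i < 112 <;> simp [hi, Nat.testBit_xor]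

theorem vmB_lt : ∀ {rs : List ℕ} (v : ℕ), (∀ r ∈ rs, r < 2 ^ 112) → vmB rs v < 2 ^ 112
  | [], v, _ => by simp [vmB]
  | r :: rs, v, h => by
    have ih := vmB_lt (rs := rs) (v / 2) fun a ha => h a (List.mem_cons_of_mem _ ha)
    rw [vmB]
    split_ifs
    · exact Nat.xor_lt_two_pow (h r List.mem_cons_self) ih
    · exact ih

theorem mulP_cons (s r : ℕ) (rs : List ℕ) (A : ℕ) :
    mulP s (r :: rs) A = Nat.xor (Nat.land A s * r) (mulP s rs (Nat.shiftRight A 1)) := rfl

theorem mulP_spec_aux {A : List ℕ} (hA : RowsOk A) : ∀ (rs : List ℕ) (k : ℕ),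
    (∀ r ∈ rs, r < 2 ^ 112) → k + rs.length ≤ 112 →
    mulP spread112 rs (packR A >>> k) = packR (A.map fun a => vmB rs (a / 2 ^ k))
  | [], k, _, _ => by
    show 0 = _
    have : (A.map fun a => vmB [] (a / 2 ^ k)) = List.replicate A.length 0 := by
      rw [← List.map_const']; exact List.map_congr_left fun a _ => rfl
    rw [this]
    generalize A.length = n
    induction n with
    | zero => rfl
    | succ n ih => rw [List.replicate_succ, packR, ← ih]; rfl
  | r :: rs, k, h, hk => by
    have hk' : k < 112 := by rw [List.length_cons] at hk; omega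
    have hr := h r List.mem_cons_self
    have ih := mulP_spec_aux hA rs (k + 1) (fun a ha => h a (List.mem_cons_of_mem _ ha))
      (by rw [List.length_cons] at hk; omega)
    have e1 : Nat.shiftRight (packR A >>> k) 1 = packR A >>> (k + 1) := (Nat.shiftRight_add _ k 1).symm
    have e2 : Nat.land (packR A >>> k) spread112 = packR (A.map fun a => a / 2 ^ k % 2) := by
      have := slots_eq hA.2 hk'
      rwa [hA.1] at this
    rw [mulP_cons, e1, ih, e2, packR_mul, List.map_map]
    show ((packR _ : ℕ) ^^^ packR _) = _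
    rw [packR_xor (by simp), List.zipWith_map, List.zipWith_self]
    · refine congrArg packR (List.map_congr_left fun a _ => ?_)
      have ea : a / 2 ^ k / 2 = a / 2 ^ (k + 1) := by rw [Nat.div_div_eq_div_mul, pow_succ]
      show a / 2 ^ k % 2 * r ^^^ vmB rs (a / 2 ^ (k + 1)) = vmB (r :: rs) (a / 2 ^ k)
      rw [vmB, ea]
      rcases Nat.mod_two_eq_zero_or_one (a / 2 ^ k) with e | e <;> rw [e] <;> simp
    · intro a ha
      obtain ⟨b, _, rfl⟩ := List.mem_map.1 ha
      rcases Nat.mod_two_eq_zero_or_one (b / 2 ^ k) with e | e <;> simp [e] <;> simpa using hr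
    · intro a ha
      obtain ⟨b, _, rfl⟩ := List.mem_map.1 ha
      exact vmB_lt _ fun a ha => h a (List.mem_cons_of_mem _ ha)

theorem mulP_spec {A B : List ℕ} (hA : RowsOk A) (hB : RowsOk B) :
    mulP spread112 B (packR A) = packR (mmulB A B) ∧ RowsOk (mmulB A B) := by
  have h := mulP_spec_aux hA B 0 hB.2 (by rw [hB.1])
  refine ⟨?_, by rw [length_mmulB]; exact hA.1, fun a ha => ?_⟩
  · rw [Nat.shiftRight_zero] at h
    rw [h, mmulB]
    exact congrArg packR (List.map_congr_left fun a _ => by rw [pow_zero, Nat.div_one])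
  · obtain ⟨b, _, rfl⟩ := List.mem_map.1 ha
    exact vmB_lt _ hB.2

theorem rowsOk_id : RowsOk (idB 112) := by
  refine ⟨by simp [idB], fun a ha => ?_⟩
  obtain ⟨i, hi, rfl⟩ := List.mem_map.1 ha
  exact Nat.pow_lt_pow_right (by norm_num) (List.mem_range.1 hi)

/-- The rows of a packed number. -/
def rowsP (P : ℕ) : List ℕ :=
  (List.range 112).map fun i => Nat.land (Nat.shiftRight P (112 * i)) (2 ^ 112 - 1)

theorem rowsP_ok (P : ℕ) : RowsOk (rowsP P) := by
  refine ⟨by simp [rowsP], fun a ha => ?_⟩
  obtain ⟨i, _, rfl⟩ := List.mem_map.1 ha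
  exact lt_of_le_of_lt Nat.and_le_right (Nat.sub_lt (Nat.two_pow_pos 112) one_pos)

theorem toMatB_rowsP (P : ℕ) : toMatB 112 (rowsP P) = toMatP P := by
  refine Matrix.ext fun i j => ?_
  simp only [toMatB, toMatP, Matrix.of_apply, rowsP]
  rw [List.getD_eq_getElem _ _ (by simp), List.getElem_map, List.getElem_range]
  refine congrArg bitZ ?_
  show ((P >>> (112 * i.val)) &&& (2 ^ 112 - 1)).testBit j.val = _
  rw [Nat.testBit_and, Nat.testBit_shiftRight, Nat.testBit_two_pow_sub_one]
  simp [j.isLt]

theorem rowsP_packR {A : List ℕ} (hA : RowsOk A) : rowsP (packR A) = A := by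
  refine List.ext_getElem (by simp [rowsP, hA.1]) fun i h1 h2 => Nat.eq_of_testBit_eq fun j => ?_
  simp only [rowsP, List.getElem_map, List.getElem_range]
  show (((packR A) >>> (112 * i)) &&& (2 ^ 112 - 1)).testBit j = _
  rw [Nat.testBit_and, Nat.testBit_shiftRight, Nat.testBit_two_pow_sub_one]
  by_cases hj : j < 112
  · rw [testBit_packR hA.2 i j hj, List.getD_eq_getElem _ _ h2]
    simp [hj]
  · rw [Nat.testBit_eq_false_of_lt (lt_of_lt_of_le (hA.2 _ (List.getElem_mem h2))
      (Nat.pow_le_pow_right (by norm_num) (by omega)))]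
    simp [hj]

/-- A packed number with nothing outside its 112 rows. -/
def goodP (P : ℕ) : Bool := Nat.beq (packR (rowsP P)) P

/-- The product of two packed matrices. -/
noncomputable def mP (A B : ℕ) : ℕ := mulP spread112 (rowsP B) A

theorem goodP_packR {A : List ℕ} (hA : RowsOk A) : goodP (packR A) = true := by
  rw [goodP, rowsP_packR hA, Nat.beq_eq]

theorem mP_spec {A B : ℕ} (hA : goodP A = true) :
    goodP (mP A B) = true ∧ toMatP (mP A B) = toMatP A * toMatP B := by
  rw [goodP, Nat.beq_eq] at hA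
  obtain ⟨e, hok⟩ := mulP_spec (rowsP_ok A) (rowsP_ok B)
  rw [hA] at e
  rw [mP, e]
  refine ⟨goodP_packR hok, ?_⟩
  rw [toMatP_packR hok.2, toMatB_mul (rowsP_ok A).1 (rowsP_ok B).1, toMatB_rowsP, toMatB_rowsP]

theorem toMatP_id : toMatP idP = 1 := by
  rw [idP, toMatP_packR rowsOk_id.2, toMatB_id]

theorem goodP_id : goodP idP = true := goodP_packR rowsOk_id

theorem toMatP_xor (A B : ℕ) : toMatP (A ^^^ B) = toMatP A + toMatP B := by
  refine Matrix.ext fun i j => ?_
  simp only [toMatP, Matrix.add_apply, Matrix.of_apply, Nat.testBit_xor, bitZ_xor]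

theorem toMatP_inj {A B : ℕ} (hA : goodP A = true) (hB : goodP B = true)
    (h : toMatP A = toMatP B) : A = B := by
  rw [goodP, Nat.beq_eq] at hA hB
  rw [← hA, ← hB]
  refine congrArg packR (List.ext_getElem (by simp [rowsP]) fun i h1 h2 => Nat.eq_of_testBit_eq fun j => ?_)
  have hi : i < 112 := by simpa [rowsP] using h1
  by_cases hj : j < 112
  · have e := congrFun (congrFun h ⟨i, hi⟩) ⟨j, hj⟩
    rw [← toMatB_rowsP A, ← toMatB_rowsP B] at e
    simp only [toMatB, Matrix.of_apply, List.getD_eq_getElem _ _ h1, List.getD_eq_getElem _ _ h2] at e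
    revert e
    generalize (rowsP A)[i].testBit j = p
    generalize (rowsP B)[i].testBit j = q
    cases p <;> cases q <;> decide
  · have hb : ∀ {C : ℕ} {k : ℕ} (hk : k < (rowsP C).length), (rowsP C)[k].testBit j = false := fun hk =>
      Nat.testBit_eq_false_of_lt (lt_of_lt_of_le ((rowsP_ok _).2 _ (List.getElem_mem hk))
        (Nat.pow_le_pow_right (by norm_num) (by omega)))
    rw [hb h1, hb h2]

end CfsgLib.J4G
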