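import Cfsg.Agent.Lib.J4G.SimpleCrit
import Cfsg.Agent.Lib.J4G.Fixed
import Cfsg.Agent.Lib.J4G.Order

/-!
# The matrix group is simple once its order is known
-/

set_option autoImplicit false
set_option maxRecDepth 100000

namespace CfsgLib.J4G

open Subgroup

/-- The point stabiliser inside the group. -/
noncomputable def jK : Subgroup gJ := gK.subgroupOf gJ

/-- The abelian subgroup inside the group. -/
noncomputable def jE : Subgroup gJ := gE.subgroupOf gJ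

theorem map_jK : jK.map gJ.subtype = gK := by rw [jK, map_subgroupOf_eq_of_le gK_le]

theorem map_jE : jE.map gJ.subtype = gE := by
  rw [jE, map_subgroupOf_eq_of_le (gE_le.trans gK_le)]

theorem gJ_normal_top {N : Subgroup gJ} (hN : N.Normal) (h : jK ≤ N) : N = ⊤ := by
  obtain ⟨hx, hy, ht⟩ := mem_gJ
  have hxN : (⟨gX, hx⟩ : gJ) ∈ N := h (subset_closure (by simp) : gX ∈ gK)
  have hyN : (⟨gY, hy⟩ : gJ) ∈ N := h (subset_closure (by simp) : gY ∈ gK)
  have hr := congrArg CfsgLib.J4P.rho (PresentedGroup.mk_eq_one_iff.2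
    (Subgroup.subset_normalClosure (Or.inr (by
      unfold Cfsg.Spor.J4.extra
      simp only [Set.mem_setOf_eq, List.mem_cons, true_or, or_true] :
      (Cfsg.Spor.J4.y * ((Cfsg.Spor.J4.y * Cfsg.Spor.J4.x * (Cfsg.Spor.J4.y⁻¹) * Cfsg.Spor.J4.x * Cfsg.Spor.J4.y * Cfsg.Spor.J4.x * (Cfsg.Spor.J4.y⁻¹) * Cfsg.Spor.J4.x)⁻¹ * Cfsg.Spor.J4.t * (Cfsg.Spor.J4.y * Cfsg.Spor.J4.x * (Cfsg.Spor.J4.y⁻¹) * Cfsg.Spor.J4.x * Cfsg.Spor.J4.y * Cfsg.Spor.J4.x * (Cfsg.Spor.J4.y⁻¹) * Cfsg.Spor.J4.x))) ^ 3 ∈ {r | r ∈ Cfsg.Spor.J4.extra})) :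
      _ ∈ Subgroup.normalClosure CfsgLib.J4P.jRels))
  simp only [map_one, map_pow, map_mul, map_inv] at hr
  change (CfsgLib.J4P.rho (PresentedGroup.of Cfsg.Spor.J4.Gen.y) *
    ((CfsgLib.J4P.rho (PresentedGroup.of Cfsg.Spor.J4.Gen.y) * CfsgLib.J4P.rho (PresentedGroup.of .x) *
      (CfsgLib.J4P.rho (PresentedGroup.of .y))⁻¹ * CfsgLib.J4P.rho (PresentedGroup.of .x) *
      CfsgLib.J4P.rho (PresentedGroup.of .y) * CfsgLib.J4P.rho (PresentedGroup.of .x) *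
      (CfsgLib.J4P.rho (PresentedGroup.of .y))⁻¹ * CfsgLib.J4P.rho (PresentedGroup.of .x))⁻¹ *
      CfsgLib.J4P.rho (PresentedGroup.of .t) *
      (CfsgLib.J4P.rho (PresentedGroup.of .y) * CfsgLib.J4P.rho (PresentedGroup.of .x) *
      (CfsgLib.J4P.rho (PresentedGroup.of .y))⁻¹ * CfsgLib.J4P.rho (PresentedGroup.of .x) *
      CfsgLib.J4P.rho (PresentedGroup.of .y) * CfsgLib.J4P.rho (PresentedGroup.of .x) *
      (CfsgLib.J4P.rho (PresentedGroup.of .y))⁻¹ * CfsgLib.J4P.rho (PresentedGroup.of .x)))) ^ 3 = 1 at hr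
  rw [rho_of, rho_of, rho_of] at hr
  let q := QuotientGroup.mk' N
  let X : gJ := ⟨gX, hx⟩
  let Y : gJ := ⟨gY, hy⟩
  let T : gJ := ⟨gT, ht⟩
  have hr' : (Y * ((Y * X * Y⁻¹ * X * Y * X * Y⁻¹ * X)⁻¹ * T * (Y * X * Y⁻¹ * X * Y * X * Y⁻¹ * X))) ^ 3 = 1 :=
    Subtype.ext hr
  have hT2 : T * T = 1 := Subtype.ext gT_sq
  have qX : q X = 1 := (QuotientGroup.eq_one_iff _).2 hxN
  have qY : q Y = 1 := (QuotientGroup.eq_one_iff _).2 hyN
  have e3 := congrArg q hr'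
  simp only [map_pow, map_mul, map_inv, qX, qY, one_mul, mul_one, inv_one, map_one] at e3
  have e2 := congrArg q hT2
  rw [map_mul, map_one] at e2
  have hT : T ∈ N := by
    rw [pow_succ, pow_two, e2, one_mul] at e3
    exact (QuotientGroup.eq_one_iff _).1 e3
  refine eq_top_iff.2 fun g _ => ?_
  obtain ⟨g, hg⟩ := g
  have hle : gJ ≤ N.map gJ.subtype := by
    refine (closure_le _).2 ?_
    rintro a (rfl | rfl | rfl)
    exacts [⟨X, hxN, rfl⟩, ⟨Y, hyN, rfl⟩, ⟨T, hT, rfl⟩]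
  obtain ⟨g', hg', e⟩ := hle hg
  exact (show g' = ⟨g, hg⟩ from Subtype.ext e) ▸ hg'

theorem gJ_simple (h : Nat.card gJ = 86775571046077562880) : IsSimpleGroup gJ := by
  refine simple_of_local jK jE h ?_ ?_ (fun A hA hn => ?_) (fun g hg ho => ?_) (fun N hN hE => ?_)
    (fun N hN hK => gJ_normal_top hN hK)
  · rw [jK, Nat.card_congr (subgroupOfEquivOfLe gK_le).toEquiv, card_gK]
  · rw [jE, Nat.card_congr (subgroupOfEquivOfLe (gE_le.trans gK_le)).toEquiv, card_gE]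
  · have hn' : gK ≤ normalizer ((A.map gJ.subtype : Subgroup GL2) : Set GL2) := fun k hk =>
      mem_normalizer_of_conj_le fun a ha => by
        obtain ⟨a', ha', rfl⟩ := ha
        exact ⟨_, (mem_normalizer_iff.1 (hn (show (⟨k, gK_le hk⟩ : gJ) ∈ jK from hk)) a').1 ha', rfl⟩
    rcases normal_cases (map_jK ▸ map_mono hA) hn' with e | e | e
    · exact Or.inl (map_injective gJ.subtype_injective (e.trans (Subgroup.map_bot _).symm))
    · exact Or.inr (Or.inl (map_injective gJ.subtype_injective (e.trans map_jE.symm)))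
    · exact Or.inr (Or.inr (map_injective gJ.subtype_injective (e.trans map_jK.symm)))
  · refine Subtype.ext (@odd_centralizer (g : GL2) (fun b hb => ?_) (orderOf g) ho ?_)
    · have e := congrArg gJ.subtype (hg ⟨b, gK_le (gE_le hb)⟩ hb).eq
      rw [map_mul, map_mul] at e
      exact e
    · have e := congrArg gJ.subtype (pow_orderOf_eq_one g)
      rw [map_pow, map_one] at e
      exact e
  · let T : gJ := ⟨gT, mem_gJ.2.2⟩
    let e : gJ := ⟨eG fQ, gK_le (gE_le ⟨fQ, rfl⟩)⟩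
    have hT : T⁻¹ = T := inv_eq_of_mul_eq_one_right (Subtype.ext gT_sq)
    refine ⟨T * e * T⁻¹, hN.conj_mem e (hE (show eG fQ ∈ gE from ⟨fQ, rfl⟩)) T, ?_, ?_⟩
    · rw [hT]; exact gF_mem.1
    · rw [hT]; exact gF_mem.2

end CfsgLib.J4G
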