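import Cfsg.Agent.Lib.J4G.Products
import Mathlib.GroupTheory.Sylow
import Mathlib.GroupTheory.Subgroup.Simple
import Mathlib.Tactic.NormNum.Prime
import Mathlib.Tactic.IntervalCases
import Mathlib.Tactic.Ring

/-!
# Simplicity from the point stabiliser

A normal subgroup meeting the stabiliser trivially has order dividing 173067389, and a Sylow
subgroup of it would be centralised by a Sylow 2-subgroup of the group (Frattini).
-/

set_option autoImplicit false

namespace CfsgLib.J4G

open Subgroup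

theorem prime_power_small {p k : ℕ} (hp : p.Prime) (h : p ^ k ∣ 173067389) : p ^ k ≤ 121 ∧ k ≤ 2 := by
  rcases Nat.eq_zero_or_pos k with rfl | hk
  · simp
  have hp' : p ∣ 11 * (11 * (29 * (31 * (37 * 43)))) :=
    (dvd_pow_self p hk.ne').trans (by rwa [show 11 * (11 * (29 * (31 * (37 * 43)))) = 173067389 by norm_num])
  have hcases : p = 11 ∨ p = 29 ∨ p = 31 ∨ p = 37 ∨ p = 43 := by
    have eq : ∀ q : ℕ, q.Prime → p ∣ q → p = q := fun q hq hd => (Nat.prime_dvd_prime_iff_eq hp hq).1 hd
    rcases hp.dvd_mul.1 hp' with h | h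
    · exact Or.inl (eq 11 (by norm_num) h)
    rcases hp.dvd_mul.1 h with h | h
    · exact Or.inl (eq 11 (by norm_num) h)
    rcases hp.dvd_mul.1 h with h | h
    · exact Or.inr (Or.inl (eq 29 (by norm_num) h))
    rcases hp.dvd_mul.1 h with h | h
    · exact Or.inr (Or.inr (Or.inl (eq 31 (by norm_num) h)))
    rcases hp.dvd_mul.1 h with h | h
    · exact Or.inr (Or.inr (Or.inr (Or.inl (eq 37 (by norm_num) h))))
    · exact Or.inr (Or.inr (Or.inr (Or.inr (eq 43 (by norm_num) h))))
  have hk2 : k ≤ 2 := by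
    by_contra hk3
    have h3 := (pow_dvd_pow p (show 3 ≤ k by omega)).trans h
    rcases hcases with rfl | rfl | rfl | rfl | rfl <;> norm_num at h3
  refine ⟨?_, hk2⟩
  interval_cases k <;> rcases hcases with rfl | rfl | rfl | rfl | rfl <;> first | omega | (norm_num at h) | norm_num

theorem two_generated {P : Type*} [Group P] [Finite P] {p k : ℕ} (hp : p.Prime)
    (hc : Nat.card P = p ^ k) (hk : k ≤ 2) : ∃ a b : P, closure {a, b} = ⊤ := by
  by_cases h1 : ∀ a : P, a = 1
  · exact ⟨1, 1, Subgroup.ext fun a => by simp [h1 a]⟩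
  push Not at h1
  obtain ⟨a, ha⟩ := h1
  by_cases h2 : zpowers a = ⊤
  · exact ⟨a, a, by rw [Set.pair_eq_singleton, ← zpowers_eq_closure, h2]⟩
  obtain ⟨b, hb⟩ : ∃ b, b ∉ zpowers a := by
    by_contra h
    push Not at h
    exact h2 (eq_top_iff.2 fun x _ => h x)
  refine ⟨a, b, ?_⟩
  have hlt : zpowers a < closure {a, b} := lt_of_le_of_ne (zpowers_le.2 (subset_closure (by simp)))
    fun e => hb (e ▸ subset_closure (by simp))
  obtain ⟨i, hi, ei⟩ := (Nat.dvd_prime_pow hp).1 (hc ▸ (closure {a, b}).card_subgroup_dvd_card)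
  obtain ⟨j, hj, ej⟩ := (Nat.dvd_prime_pow hp).1 (hc ▸ (zpowers a).card_subgroup_dvd_card)
  have hj1 : 1 ≤ j := by
    by_contra hj0
    have e : Nat.card (zpowers a) = 1 := by rw [ej, show j = 0 by omega, pow_zero]
    rw [Nat.card_zpowers, orderOf_eq_one_iff] at e
    exact ha e
  have hij : j < i := by
    have h := Set.Finite.card_lt_card (Set.toFinite _) (SetLike.coe_ssubset_coe.2 hlt)
    by_contra hle
    have hh : Nat.card (zpowers a) < Nat.card (closure {a, b}) := h
    rw [ei, ej] at hh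
    exact absurd (Nat.pow_le_pow_right hp.pos (by omega : i ≤ j)) (not_le.2 hh)
  refine eq_top_of_card_eq _ ?_
  rw [ei, hc, show i = k by omega]

theorem mulAut_card_le {P : Type*} [Group P] [Finite P] {a b : P} (h : closure {a, b} = ⊤) :
    Nat.card (MulAut P) ≤ Nat.card P * Nat.card P := by
  rw [← Nat.card_prod]
  refine Nat.card_le_card_of_injective (fun f : MulAut P => (f a, f b)) fun f g e => ?_
  simp only [Prod.mk.injEq] at e
  refine MulEquiv.toMonoidHom_injective (MonoidHom.eq_of_eqOn_dense h ?_)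
  rintro x (rfl | rfl)
  exacts [e.1, e.2]

/-- The criterion. -/
theorem simple_of_local {G : Type*} [Group G] [Finite G] (K E : Subgroup G)
    (hcardG : Nat.card G = 86775571046077562880) (hcardK : Nat.card K = 501397585920)
    (hcardE : Nat.card E = 2048)
    (hcases : ∀ A : Subgroup G, A ≤ K → K ≤ normalizer (A : Set G) → A = ⊥ ∨ A = E ∨ A = K)
    (hcent : ∀ g : G, (∀ b ∈ E, Commute g b) → Odd (orderOf g) → g = 1)
    (hlink : ∀ N : Subgroup G, N.Normal → E ≤ N → ∃ g ∈ N, g ∈ K ∧ g ∉ E)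
    (hgen : ∀ N : Subgroup G, N.Normal → K ≤ N → N = ⊤) : IsSimpleGroup G := by
  have : Nontrivial G := Finite.one_lt_card_iff_nontrivial.1 (by rw [hcardG]; norm_num)
  refine { eq_bot_or_eq_top_of_normal := fun N hN => ?_ }
  have hsub : ∀ A : Subgroup G, A.Normal → K ≤ normalizer ((A ⊓ K : Subgroup G) : Set G) := fun A hA k hk =>
    mem_normalizer_of_conj_le fun a ha =>
      ⟨hA.conj_mem a ha.1 k, K.mul_mem (K.mul_mem hk ha.2) (K.inv_mem hk)⟩
  rcases hcases (N ⊓ K) inf_le_right (hsub N hN) with h | h | h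
  rotate_left
  · have hE : E ≤ N := h ▸ inf_le_left
    obtain ⟨g, hgN, hgK, hgE⟩ := hlink N hN hE
    exact absurd (h ▸ (⟨hgN, hgK⟩ : g ∈ N ⊓ K)) hgE
  · exact Or.inr (hgen N hN (h ▸ inf_le_left))
  left
  have hNdvd : Nat.card N ∣ 173067389 := by
    have h1 := (N ⊔ K).card_subgroup_dvd_card
    rw [card_sup_disjoint (normalizer_eq_top_iff.2 hN ▸ le_top) (disjoint_iff.2 h), hcardK, hcardG,
      show 86775571046077562880 = 173067389 * 501397585920 by norm_num] at h1
    exact Nat.dvd_of_mul_dvd_mul_right (by norm_num) h1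
  have hodd : Odd (Nat.card N) := Odd.of_dvd_nat (by decide) hNdvd
  by_contra hne
  obtain ⟨p, hp, hpdvd⟩ := Nat.exists_prime_and_dvd (fun e => hne ((Subgroup.card_eq_one).1 e))
  have : Fact p.Prime := ⟨hp⟩
  let P : Sylow p N := default
  set Pm : Subgroup G := (P : Subgroup N).map N.subtype with hPm
  have hcardP : Nat.card Pm = Nat.card (P : Subgroup N) := card_map_of_injective N.subtype_injective
  obtain ⟨k, hk⟩ := (IsPGroup.iff_card.1 P.2)
  have hk0 : k ≠ 0 := fun e => by
    have := P.dvd_card_of_dvd_card hpdvd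
    rw [hk, e, pow_zero] at this
    exact hp.not_dvd_one this
  obtain ⟨hsmall, hk2⟩ := prime_power_small hp (hk ▸ ((P : Subgroup N).card_subgroup_dvd_card.trans hNdvd))
  obtain ⟨a, b, hab⟩ := two_generated hp (hcardP.trans hk) hk2
  have haut : Nat.card (MulAut Pm) ≤ 14641 := by
    have h1 := mulAut_card_le hab
    have h2 : Nat.card Pm ≤ 121 := by rw [hcardP, hk]; exact hsmall
    calc _ ≤ _ := h1
      _ ≤ 121 * 121 := Nat.mul_le_mul h2 h2
  have hfr : normalizer (Pm : Set G) ⊔ N = ⊤ := Sylow.normalizer_sup_eq_top P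
  set C : Subgroup G := centralizer (Pm : Set G) with hC
  have hNC : normalizer (Pm : Set G) ≤ normalizer (C : Set G) := fun g hg =>
    mem_normalizer_of_conj_le fun c hc => by
      rw [hC, mem_centralizer_iff] at hc ⊢
      intro x hx
      have hx' : g⁻¹ * x * g ∈ Pm := by
        have := (mem_normalizer_iff.1 (inv_mem hg) x).1 hx
        rwa [inv_inv] at this
      have h := congrArg (fun z => g * z * g⁻¹) (hc _ hx')
      simpa [mul_assoc] using h
  set D : Subgroup G := C ⊔ N with hD
  have hDn : D.Normal := by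
    rw [← normalizer_eq_top_iff, eq_top_iff, ← hfr]
    refine sup_le ?_ (le_sup_right.trans le_normalizer)
    exact (le_inf hNC (normalizer_eq_top_iff.2 hN ▸ le_top)).trans
      (normalizer_inf_normalizer_le_normalizer_sup C N)
  have hDidx : D.index ≤ 14641 := by
    let φ := Pm.normalizerMonoidHom
    let ψ : normalizer (Pm : Set G) →* G ⧸ D := (QuotientGroup.mk' D).comp (Subgroup.subtype _)
    have hψ : Function.Surjective ψ := by
      intro q
      obtain ⟨g, rfl⟩ := QuotientGroup.mk'_surjective D q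
      have hg : g ∈ normalizer (Pm : Set G) ⊔ N := hfr ▸ mem_top g
      rw [← SetLike.mem_coe, coe_mul_of_left_le_normalizer_right _ _ (normalizer_eq_top_iff.2 hN ▸ le_top)] at hg
      obtain ⟨x, hx, y, hy, rfl⟩ := hg
      exact ⟨⟨x, hx⟩, (QuotientGroup.mk'_eq_mk' D).2 ⟨y, (le_sup_right : N ≤ D) hy, rfl⟩⟩
    have hker : φ.ker ≤ ψ.ker := by
      intro x hx
      rw [normalizerMonoidHom_ker] at hx
      exact (QuotientGroup.eq_one_iff _).2 ((le_sup_left : C ≤ D) hx)
    have h1 : Nat.card (G ⧸ D) ≤ Nat.card (normalizer (Pm : Set G) ⧸ φ.ker) :=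
      Nat.card_le_card_of_surjective (QuotientGroup.lift φ.ker ψ hker) fun q => by
        obtain ⟨x, rfl⟩ := hψ q
        exact ⟨x, rfl⟩
    have h2 : Nat.card (normalizer (Pm : Set G) ⧸ φ.ker) ≤ Nat.card (MulAut Pm) :=
      Nat.card_le_card_of_injective _ (QuotientGroup.kerLift_injective φ)
    exact h1.trans (h2.trans haut)
  have hDK : K ≤ D := by
    rcases hcases (D ⊓ K) inf_le_right (hsub D hDn) with h' | h' | h'
    rotate_left 2
    · exact h' ▸ inf_le_left
    all_goals
      exfalso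
      have h1 : (D.subgroupOf K).index ≤ D.index :=
        Nat.le_of_dvd (Nat.pos_of_ne_zero index_ne_zero_of_finite) (relIndex_dvd_index_of_normal D K)
      have h2 := (D.subgroupOf K).card_mul_index
      rw [hcardK] at h2
      have h3 : Nat.card (D.subgroupOf K) ≤ 2048 := by
        rw [← inf_subgroupOf_right, Nat.card_congr (subgroupOfEquivOfLe (inf_le_right : D ⊓ K ≤ K)).toEquiv, h']
        first | exact hcardE.le | simp
      have : Nat.card (D.subgroupOf K) * (D.subgroupOf K).index ≤ 2048 * 14641 :=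
        Nat.mul_le_mul h3 (h1.trans hDidx)
      omega
  have hDtop : D = ⊤ := hgen D hDn hDK
  have hCidx : Odd C.index := by
    have h1 : N.relIndex C = N.index := by
      rw [← relIndex_sup_right C N, ← hD, hDtop, relIndex_top_right]
    have h2 := (N.subgroupOf C).card_mul_index
    have h3 := C.card_mul_index
    rw [← N.card_mul_index, ← h2, show (N.subgroupOf C).index = N.index from h1] at h3
    refine Odd.of_dvd_nat hodd ⟨Nat.card (N.subgroupOf C), ?_⟩
    exact Nat.eq_of_mul_eq_mul_right (Nat.pos_of_ne_zero index_ne_zero_of_finite)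
      (h3.symm.trans (by ring) : Nat.card N * N.index = C.index * Nat.card (N.subgroupOf C) * N.index)
  have : Fact (Nat.Prime 2) := ⟨Nat.prime_two⟩
  let S : Sylow 2 C := default
  have hSidx : ¬ 2 ∣ ((S : Subgroup C).map C.subtype).index := by
    rw [index_map_subtype, Nat.prime_two.dvd_mul, not_or]
    exact ⟨S.not_dvd_index, hCidx.not_two_dvd_nat⟩
  let Sc : Sylow 2 G := (S.2.map C.subtype).toSylow hSidx
  obtain ⟨Q, hQ⟩ := (IsPGroup.of_card (p := 2) (n := 11) (by rw [hcardE]; norm_num) :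
    IsPGroup 2 E).exists_le_sylow
  obtain ⟨g, hg⟩ := MulAction.exists_smul_eq G Sc Q
  obtain ⟨x, hx, hx1⟩ : ∃ x ∈ Pm, x ≠ 1 := by
    by_contra hall
    push Not at hall
    have e : Pm = ⊥ := eq_bot_iff.2 fun x hx => mem_bot.2 (hall x hx)
    rw [e] at hcardP
    simp only [card_bot, hk] at hcardP
    exact absurd hcardP.symm (Nat.one_lt_pow hk0 hp.one_lt).ne'
  have hxN : x ∈ N := map_subtype_le _ hx
  have hox : Odd (orderOf (g * x * g⁻¹)) := by
    refine Odd.of_dvd_nat hodd ?_
    exact Subgroup.orderOf_dvd_natCard N (hN.conj_mem x hxN g)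
  refine hx1 (conj_eq_one_iff.1 (hcent _ (fun e he => ?_) hox))
  have he' : e ∈ ((g • Sc : Sylow 2 G) : Subgroup G) := hg.symm ▸ hQ he
  rw [Sylow.coe_subgroup_smul] at he'
  obtain ⟨s, hs, rfl⟩ := he'
  have hsC : s ∈ C := map_subtype_le (S : Subgroup C) hs
  have hsx : Commute x s := (mem_centralizer_iff.1 hsC x hx)
  exact hsx.conj g

end CfsgLib.J4G
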