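import Cfsg.Agent.Lib.J4G.Elementary
import Cfsg.Agent.Lib.J4G.Mathieu

/-!
# The point stabiliser 2^11:M24 and its normal subgroups
-/

set_option autoImplicit false
set_option maxRecDepth 100000

namespace CfsgLib.J4G

open Subgroup

theorem gM_normalizes : gM ≤ normalizer (gE : Set GL2) := by
  rw [gM, closure_le]
  rintro g (rfl | rfl)
  exacts [normalizes.1, normalizes.2]

theorem gK_eq : gK = gE ⊔ gM := by
  refine le_antisymm ((closure_le _).2 ?_) (sup_le gE_le ((closure_le _).2 ?_))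
  · rintro g (rfl | rfl | rfl)
    · exact mem_sup_right (subset_closure (by simp))
    · exact mem_sup_right (subset_closure (by simp))
    · exact mem_sup_left gP_mem
  · rintro g (rfl | rfl) <;> exact subset_closure (by simp)

theorem gK_normalizes : gK ≤ normalizer (gE : Set GL2) := by
  rw [gK_eq]
  exact sup_le le_normalizer gM_normalizes

theorem mem_gK {k : GL2} : k ∈ gK ↔ ∃ e ∈ gE, ∃ m ∈ gM, e * m = k := by
  rw [gK_eq, ← SetLike.mem_coe, coe_mul_of_right_le_normalizer_left _ _ gM_normalizes, Set.mem_mul]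
  simp only [SetLike.mem_coe]

theorem gX_gM : gX ∈ gM := subset_closure (by simp)

theorem inter_gM {A : Subgroup GL2} (hA : gM ≤ normalizer (A : Set GL2)) :
    A ⊓ gM = ⊥ ∨ gM ≤ A := by
  have := gM_simple
  have hn : (A.subgroupOf gM).Normal := (normal_subgroupOf_iff_le_normalizer_inf).2 (by
    exact fun g hg => mem_normalizer_of_conj_le fun a ha =>
      ⟨(mem_normalizer_iff.1 (hA hg) a).1 ha.1, gM.mul_mem (gM.mul_mem hg ha.2) (gM.inv_mem hg)⟩)
  rcases hn.eq_bot_or_eq_top with h | h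
  · exact Or.inl (disjoint_iff.1 (subgroupOf_eq_bot.1 h))
  · exact Or.inr (subgroupOf_eq_top.1 h)

theorem gM_not_le_centralizer : ¬ gM ≤ centralizer (gE : Set GL2) := by
  intro h
  obtain ⟨b, hb, hne⟩ := exists_not_commute
  exact hne (mem_centralizer_iff.1 (h gX_gM) b hb).symm

theorem disjoint_gM : Disjoint gE gM := by
  rw [disjoint_iff]
  rcases inter_gM gM_normalizes with h | h
  · exact h
  · refine absurd (fun m hm => ?_) gM_not_le_centralizer
    rw [mem_centralizer_iff]
    intro b hb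
    obtain ⟨u, rfl⟩ := h hm
    obtain ⟨w, rfl⟩ := hb
    rw [← eG_xor, ← eG_xor, Nat.xor_comm]

theorem card_gK : Nat.card gK = 501397585920 := by
  rw [gK_eq, card_sup_disjoint gM_normalizes disjoint_gM, card_gE, card_gM]

theorem centralizer_gE {k : GL2} (hk : k ∈ gK) (hc : k ∈ centralizer (gE : Set GL2)) : k ∈ gE := by
  obtain ⟨e, he, m, hm, rfl⟩ := mem_gK.1 hk
  have hec : e ∈ centralizer (gE : Set GL2) := mem_centralizer_iff.2 fun b hb => by
    obtain ⟨u, rfl⟩ := he
    obtain ⟨w, rfl⟩ := hb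
    rw [← eG_xor, ← eG_xor, Nat.xor_comm]
  have hmc : m ∈ centralizer (gE : Set GL2) := by
    simpa using mul_mem (inv_mem hec) hc
  have hN : gM ≤ normalizer (centralizer (gE : Set GL2) : Set GL2) := fun g hg =>
    mem_normalizer_of_conj_le fun c hc' => by
      rw [mem_centralizer_iff] at hc' ⊢
      intro b hb
      have hb' : g⁻¹ * b * g ∈ gE := by
        have := (mem_normalizer_iff.1 (inv_mem (gM_normalizes hg)) b).1 hb
        rwa [inv_inv] at this
      have h := congrArg (fun z => g * z * g⁻¹) (hc' _ hb')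
      simpa [mul_assoc] using h
  rcases inter_gM hN with h | h
  · rw [(mem_bot.1 (h ▸ ⟨hmc, hm⟩ : m ∈ (⊥ : Subgroup GL2))), mul_one]
    exact he
  · exact absurd h gM_not_le_centralizer

/-- The normal subgroups of the point stabiliser. -/
theorem normal_cases {A : Subgroup GL2} (hA : A ≤ gK) (hn : gK ≤ normalizer (A : Set GL2)) :
    A = ⊥ ∨ A = gE ∨ A = gK := by
  have hM : gM ≤ gK := gK_eq ▸ le_sup_right
  by_cases h : A ⊓ gE = ⊥
  · left
    rw [eq_bot_iff]
    intro a ha
    have hc : a ∈ centralizer (gE : Set GL2) := mem_centralizer_iff.2 fun b hb => by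
      have h1 : a * b * a⁻¹ * b⁻¹ ∈ A ⊓ gE := by
        refine ⟨?_, gE.mul_mem ((mem_normalizer_iff.1 (gK_normalizes (hA ha)) b).1 hb) (inv_mem hb)⟩
        have := (mem_normalizer_iff.1 (hn (gE_le hb)) a⁻¹).1 (inv_mem ha)
        simpa [mul_assoc] using A.mul_mem ha this
      rw [h, mem_bot, mul_inv_eq_one, mul_inv_eq_iff_eq_mul] at h1
      exact h1.symm
    rw [← h]
    exact ⟨ha, centralizer_gE (hA ha) hc⟩
  · obtain ⟨g, hg, hne⟩ := ((A ⊓ gE).ne_bot_iff_exists_ne_one).1 h |>
      fun ⟨⟨g, hg⟩, hne⟩ => (⟨g, hg, fun e => hne (Subtype.ext e)⟩ : ∃ g, g ∈ A ⊓ gE ∧ g ≠ 1)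
    have hE : gE ≤ A := gE_le_of_invariant
      (fun a ha => (mem_normalizer_iff.1 (hn (hM gX_gM)) a).1 ha)
      (fun a ha => (mem_normalizer_iff.1 (hn (hM (inv_mem (subset_closure (by simp) : gY ∈ gM)))) a).1 ha)
      hg.1 hg.2 hne
    rcases inter_gM (hM.trans hn) with h' | h'
    · refine Or.inr (Or.inl (le_antisymm (fun a ha => ?_) hE))
      obtain ⟨e, he, m, hm, rfl⟩ := mem_gK.1 (hA ha)
      have hm' : m ∈ A ⊓ gM := ⟨by simpa using A.mul_mem (inv_mem (hE he)) ha, hm⟩
      rw [h', mem_bot] at hm'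
      rw [hm', mul_one]
      exact he
    · exact Or.inr (Or.inr (le_antisymm hA (gK_eq ▸ sup_le hE h')))

/-- The element linking the abelian subgroup with the Mathieu group. -/
noncomputable def gF : GL2 := gT * eG fQ * gT

theorem gF_mem : gF ∈ gK ∧ gF ∉ gE := by
  have hF : Rep gF (CfsgLib.J4G.evalP envK fW) := by
    rw [Nat.eq_of_beq_eq_true tab_checks.2.2]
    exact (rep_T.mul (rep_eG fQ)).mul rep_T
  refine ⟨?_, fun h => ?_⟩
  · obtain ⟨g, hg, hr⟩ := InS.evalP envK_mem fW
    rw [hF.eq hr rfl]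
    exact hg
  · obtain ⟨u, hu, e⟩ := mem_gE.1 h
    have := List.all_eq_true.1 tab_checks.2.1 _ (tab_bs hu).1
    have h' : Rep gF (eLP bsP u) := e ▸ rep_eG u
    rw [h'.value_eq hF] at this
    simp at this

end CfsgLib.J4G
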