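import Cfsg.Agent.Lib.J4G.Elem
import Cfsg.Agent.Lib.J4G.Data
import Cfsg.Agent.Lib.J4P.MatData

/-!
# The packed values of the generators and of the elementary abelian subgroup
-/

set_option autoImplicit false
set_option maxRecDepth 100000

namespace CfsgLib.J4G

open CfsgLib.J4P

/-- The value of a letter. -/
def letP (i : ℕ) : ℕ := packR (matJ.getD i [])

/-- x, y, inverse of y, t. -/
def env4 : List ℕ := [letP 0, letP 2, letP 3, letP 4]

/-- The value of the first of the eleven, from the generators. -/
noncomputable def p0P : ℕ := evalP env4 eW

/-- x, y, inverse of y and the first of the eleven. -/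
noncomputable def envC : List ℕ := [letP 0, letP 2, letP 3, bsP.getD 0 idP]

/-- Letters of the point stabiliser. -/
noncomputable def envK : List ℕ := runP slpW [letP 0, letP 2, letP 3] ++ bsP

/-- All letters. -/
noncomputable def envA : List ℕ := envK ++ [letP 4]

/-- The product of the members selected by the bits of u. -/
noncomputable def eLP : List ℕ → ℕ → ℕ :=
  fun l => List.rec (fun _ => idP)
    (fun b _ ih u => if Nat.beq (u % 2) 1 then mP b (ih (u / 2)) else ih (u / 2)) l

/-- All these products. -/
noncomputable def tabP : List ℕ → List ℕ :=
  fun l => List.rec [idP] (fun b _ ih => ih.flatMap fun t => [t, mP b t]) l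

/-- The packed diagonal with a single zero at the last place. -/
def dP : ℕ := packR ((List.range 112).map fun j => if Nat.blt j 111 then 2 ^ j else 0)

/-- The combination in the certificate of the fixed space. -/
noncomputable def fixSum : ℕ :=
  (List.zip bsP fixC).foldl (fun a p => Nat.xor a (mP (Nat.xor p.1 idP) p.2)) 0

end CfsgLib.J4G
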